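import Cfsg.Agent.Lib.Blocks.DefectLie.Tools

/-!
Automorphisms of order prime to `p` centralising a Sylow `p`-subgroup, in a group in which no
`p`-regular element centralises a radical subgroup.
-/

set_option autoImplicit false

namespace CfsgLib.Lie.FixSylow

open CfsgLib.Blocks.DefectLie

universe u v

variable {G : Type u} [Group G]

/-- An automorphism of order prime to `p` fixing a Sylow `p`-subgroup elementwise is trivial. -/
def FixTriv (p : ℕ) (G : Type u) [Group G] : Prop :=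
  ∀ (U : Sylow p G) (α : MulAut G), ¬ p ∣ orderOf α → (∀ x ∈ (U : Subgroup G), α x = x) → α = 1

/-- The fixed points of an automorphism. -/
def fixSub (α : MulAut G) : Subgroup G := MonoidHom.eqLocus α.toMonoidHom (MonoidHom.id G)

theorem mem_fixSub {α : MulAut G} {g : G} : g ∈ fixSub α ↔ α g = g := Iff.rfl

theorem pow_apply_of_fix (α : MulAut G) {g a b : G} (ha : α a = a) (hb : α b = b)
    (h : α g = a * g * b) : ∀ k : ℕ, (α ^ k) g = a ^ k * g * b ^ k
  | 0 => by simp
  | k + 1 => by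
    rw [pow_succ', MulAut.mul_apply, pow_apply_of_fix α ha hb h k, map_mul, map_mul, map_pow, map_pow,
      ha, hb, h, pow_succ, pow_succ']
    group

theorem eq_one_of_pow_eq_one {p : ℕ} [hp : Fact p.Prime] {c : G} {k j : ℕ} (hk : ¬ p ∣ k)
    (h1 : c ^ k = 1) (h2 : c ^ p ^ j = 1) : c = 1 := by
  have h : c ^ Nat.gcd k (p ^ j) = 1 := pow_gcd_eq_one.2 ⟨h1, h2⟩
  rwa [Nat.Coprime.pow_right j ((hp.out.coprime_iff_not_dvd.2 hk).symm), pow_one] at h

theorem fixTriv_of_one [Finite G] {p : ℕ} [Fact p.Prime] (P : Sylow p G)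
    (h : ∀ α : MulAut G, ¬ p ∣ orderOf α → (∀ x ∈ (P : Subgroup G), α x = x) → α = 1) :
    FixTriv p G := by
  intro U α hα hU
  obtain ⟨g, rfl⟩ := MulAction.exists_smul_eq G P U
  have h1 : (MulAut.conj g)⁻¹ * α * MulAut.conj g = 1 := h _ ?_ fun x hx => ?_
  · rw [mul_assoc, inv_mul_eq_one, eq_comm, mul_eq_right] at h1
    exact h1
  · rwa [show (MulAut.conj g)⁻¹ * α * MulAut.conj g = (MulAut.conj g)⁻¹ * α * ((MulAut.conj g)⁻¹)⁻¹ by
      rw [inv_inv], ← MulAut.conj_apply, MulEquiv.orderOf_eq]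
  · have h2 : α (MulAut.conj g x) = MulAut.conj g x := by
      refine hU _ ?_
      rw [Sylow.coe_subgroup_smul]
      exact Subgroup.smul_mem_pointwise_smul x (MulAut.conj g) _ hx
    rw [MulAut.mul_apply, MulAut.mul_apply, h2, MulAut.inv_apply, MulEquiv.symm_apply_apply]

theorem FixTriv.of_equiv {H : Type v} [Group H] {p : ℕ} [Fact p.Prime] [Finite G] (h : FixTriv p H)
    (e : G ≃* H) : FixTriv p G := by
  intro U α hα hU
  haveI : Finite H := Finite.of_equiv G e.toEquiv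
  let V : Sylow p H := U.mapSurjective (f := e.toMonoidHom) e.surjective
  have h1 := h V (MulAut.congr e α) ?_ fun x hx => ?_
  · rw [← map_one (MulAut.congr e), EmbeddingLike.apply_eq_iff_eq] at h1
    exact h1
  · rwa [MulEquiv.orderOf_eq]
  · obtain ⟨y, hy, rfl⟩ : x ∈ (U : Subgroup G).map e.toMonoidHom := by
      rwa [← Sylow.coe_mapSurjective]
    show e (α (e.symm (e y))) = e y
    rw [e.symm_apply_apply, hU y hy]

variable [Finite G] {p : ℕ} [Fact p.Prime]

/-- A subgroup fixed by `α` that contains a Sylow subgroup contains the normalisers of its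
nontrivial `p`-subgroups. -/
theorem normalizer_le_fixSub (hG : NoRegularTriv p G) {α : MulAut G} (hα : ¬ p ∣ orderOf α)
    (U : Sylow p G) (hU : ∀ x ∈ (U : Subgroup G), α x = x) :
    ∀ {Q : Subgroup G}, IsPGroup p Q → Q ≠ ⊥ → Q ≤ fixSub α →
      Subgroup.normalizer (Q : Set G) ≤ fixSub α := by
  intro Q
  induction hn : Nat.card G - Nat.card Q using Nat.strong_induction_on generalizing Q with
  | _ n ih =>
  intro hQ hne hQK
  subst hn
  set N := Subgroup.normalizer (Q : Set G) with hN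
  have hQN : Q ≤ N := Subgroup.le_normalizer
  have hrec : ∀ {T : Subgroup G}, Q < T → IsPGroup p T → T ≤ fixSub α →
      Subgroup.normalizer (T : Set G) ≤ fixSub α := by
    intro T hlt hT hTK
    have hc : Nat.card Q < Nat.card T := by
      by_contra hle
      exact hlt.ne (Subgroup.eq_of_le_of_card_ge hlt.le (not_lt.1 hle))
    have := Subgroup.card_le_card_group T
    exact ih _ (by omega) rfl hT (ne_bot_of_gt hlt) hTK
  obtain ⟨T, hQT, ⟨hT, hTNK⟩, hTmax⟩ := Finite.exists_le_maximal (α := Subgroup G)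
    (p := fun X => IsPGroup p X ∧ X ≤ N ⊓ fixSub α) (a := Q) ⟨hQ, le_inf hQN hQK⟩
  have hext : ∀ {X : Subgroup G}, IsPGroup p X → T ≤ X → X ≤ N ⊓ fixSub α → X ≤ T :=
    fun h1 h2 h3 => hTmax ⟨h1, h3⟩ h2
  -- a Sylow subgroup of `N` inside the fixed points
  have hTN : ∀ {T' : Subgroup G}, IsPGroup p T' → T ≤ T' → T' ≤ N → T' ≤ T := by
    intro T' hT' hle hle'
    by_contra hcon
    have hlt : T.subgroupOf T' < ⊤ :=
      lt_top_iff_ne_top.2 fun h => hcon (Subgroup.subgroupOf_eq_top.1 h)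
    haveI := hT'.isNilpotent
    obtain ⟨⟨t, ht⟩, htn, htT⟩ := SetLike.exists_of_lt (Group.normalizerCondition_of_isNilpotent _ hlt)
    have htN : t ∈ Subgroup.normalizer (T : Set G) := by
      refine Subgroup.mem_normalizer_iff.2 fun y => ?_
      by_cases hy : y ∈ T'
      · exact Subgroup.mem_normalizer_iff.1 htn ⟨y, hy⟩
      · refine iff_of_false (fun h5 => hy (hle h5)) fun h5 => hy ?_
        have := mul_mem (mul_mem (inv_mem ht) (hle h5)) ht
        simpa [mul_assoc] using this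
    rcases eq_or_lt_of_le hQT with rfl | hlt'
    · -- `Q` is then a Sylow subgroup of `G`
      obtain ⟨k, hk⟩ : ∃ k ∈ fixSub α, Q ≤ (U : Subgroup G).map (MulAut.conj k).toMonoidHom := by
        have hUK : (U : Subgroup G) ≤ fixSub α := hU
        obtain ⟨S, hS⟩ := (hQ.comap_subtype (K := fixSub α)).exists_le_sylow
        obtain ⟨k, hk⟩ := MulAction.exists_smul_eq (fixSub α) (U.subtype hUK) S
        refine ⟨k, k.2, fun x hx => ?_⟩
        have h1 : (⟨x, hQK hx⟩ : fixSub α) ∈ (S : Subgroup (fixSub α)) := hS hx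
        rw [← hk, Sylow.coe_subgroup_smul] at h1
        obtain ⟨y, hy, hyx⟩ := h1
        exact ⟨y, hy, congrArg Subtype.val hyx⟩
      obtain ⟨hkK, hkQ⟩ := hk
      set P := (U : Subgroup G).map (MulAut.conj k).toMonoidHom with hP
      have hPp : IsPGroup p P := U.isPGroup'.map _
      have hPK : P ≤ fixSub α := by
        rintro _ ⟨y, hy, rfl⟩
        exact mul_mem (mul_mem hkK (hU y hy)) (inv_mem hkK)
      have hPQ : P ≤ Q := by
        by_contra hnle
        have hlt2 : Q.subgroupOf P < ⊤ :=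
          lt_top_iff_ne_top.2 fun h => hnle (Subgroup.subgroupOf_eq_top.1 h)
        haveI := hPp.isNilpotent
        obtain ⟨⟨s, hs⟩, hsn, hsQ⟩ :=
          SetLike.exists_of_lt (Group.normalizerCondition_of_isNilpotent _ hlt2)
        have hsN : s ∈ N := by
          refine Subgroup.mem_normalizer_iff.2 fun y => ?_
          by_cases hy : y ∈ P
          · exact Subgroup.mem_normalizer_iff.1 hsn ⟨y, hy⟩
          · refine iff_of_false (fun h5 => hy (hkQ h5)) fun h5 => hy ?_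
            have := mul_mem (mul_mem (inv_mem hs) (hkQ h5)) hs
            simpa [mul_assoc] using this
        refine hsQ (hext (hPp.to_le (inf_le_left (b := N))) (le_inf hkQ hQN) ?_ ⟨hs, hsN⟩)
        exact le_inf inf_le_right (inf_le_left.trans hPK)
      have hcard : Nat.card P = Nat.card U := (Nat.card_congr
        ((U : Subgroup G).equivMapOfInjective _ (MulAut.conj k).injective).toEquiv).symm
      obtain ⟨S, hS⟩ := hT'.exists_le_sylow
      have h2 : Nat.card T' ≤ Nat.card P :=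
        ((Subgroup.card_le_of_le hS).trans_eq (Sylow.card_eq_multiplicity S)).trans_eq
          (hcard.trans (Sylow.card_eq_multiplicity U)).symm
      have h3 : Q = T' := Subgroup.eq_of_le_of_card_ge hle
        (h2.trans (Subgroup.card_le_of_le hPQ))
      exact hcon h3.ge
    · have htK : t ∈ fixSub α := hrec hlt' hT (hTNK.trans inf_le_right) htN
      refine htT (hext ?_ le_sup_left ?_ (le_sup_right (a := T) (Subgroup.mem_zpowers t)))
      · exact hT'.to_le (sup_le hle (Subgroup.zpowers_le.2 ht))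
      · exact sup_le hTNK (Subgroup.zpowers_le.2 ⟨hle' ht, htK⟩)
  -- the largest normal `p`-subgroup of `N`
  set A := (Cfsg.pCore p N).map N.subtype with hAdef
  have hAN : A ≤ N := Subgroup.map_subtype_le _
  have hA : IsPGroup p A := (CfsgLib.Core.isPGroup_pCore p N).map _
  have hNA : N ≤ Subgroup.normalizer (A : Set G) := by
    have h := Subgroup.le_normalizer_map (f := N.subtype) (H := Cfsg.pCore p N)
    rw [Subgroup.normalizer_eq_top, ← MonoidHom.range_eq_map, Subgroup.range_subtype] at h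
    exact h
  have hAT : A ≤ T := le_sup_right.trans (hTN (IsPGroup.to_sup_of_normal_right' hT hA
    ((hTNK.trans inf_le_left).trans hNA)) le_sup_left (sup_le (hTNK.trans inf_le_left) hAN))
  have hQA : Q ≤ A := by
    haveI : (Q.subgroupOf N).Normal := Subgroup.normal_in_normalizer
    have h2 := Subgroup.map_mono (f := N.subtype)
      (CfsgLib.Core.le_pCore (p := p) (N := Q.subgroupOf N) hQ.comap_subtype)
    rwa [Subgroup.map_subgroupOf_eq_of_le hQN] at h2
  rcases eq_or_lt_of_le hQA with hAQ | hlt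
  · have hrad : RadSub p Q := radSub_of_pCore hQ hAQ.symm
    have hC : IsPGroup p (Subgroup.centralizer (Q : Set G)) := by
      intro c
      obtain ⟨a, m, hm, hord⟩ : ∃ a m, ¬ p ∣ m ∧ orderOf (c : G) = p ^ a * m :=
        ⟨_, _, Nat.not_dvd_ordCompl Fact.out (orderOf_pos _).ne', (Nat.ordProj_mul_ordCompl_eq_self _ p).symm⟩
      refine ⟨a, Subtype.ext (hG Q hQ hne hrad ((c : G) ^ p ^ a) ?_ fun h hh => ?_)⟩
      · rw [orderOf_pow, hord, Nat.gcd_mul_right_left, Nat.mul_div_cancel_left _ (pow_pos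
          (Fact.out : p.Prime).pos _)]
        exact hm
      · exact (Commute.pow_left (Subgroup.mem_centralizer_iff.1 c.2 h hh).symm _).eq
    have hCQ : Subgroup.centralizer (Q : Set G) ≤ Q := hrad _ hC fun g hg =>
      Subgroup.mem_normalizer_iff.2 fun y => by
        have key : ∀ g ∈ Subgroup.normalizer (Q : Set G), ∀ y ∈ Subgroup.centralizer (Q : Set G),
            g * y * g⁻¹ ∈ Subgroup.centralizer (Q : Set G) := fun g hg y hy =>
          Subgroup.mem_centralizer_iff.2 fun h hh => by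
            have h1 := Subgroup.mem_centralizer_iff.1 hy _ ((Subgroup.mem_normalizer_iff''.1 hg h).1 hh)
            calc h * (g * y * g⁻¹) = g * (g⁻¹ * h * g * y) * g⁻¹ := by group
              _ = g * (y * (g⁻¹ * h * g)) * g⁻¹ := by rw [h1]
              _ = g * y * g⁻¹ * h := by group
        refine ⟨key g hg y, fun h => ?_⟩
        have h1 := key g⁻¹ (inv_mem hg) _ h
        rwa [show g⁻¹ * (g * y * g⁻¹) * g⁻¹⁻¹ = y by group] at h1
    intro g hg
    have hc : g⁻¹ * α g ∈ Subgroup.centralizer (Q : Set G) := by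
      refine Subgroup.mem_centralizer_iff.2 fun h hh => ?_
      have h1 : α (g * h * g⁻¹) = g * h * g⁻¹ := hQK ((Subgroup.mem_normalizer_iff.1 hg h).1 hh)
      rw [map_mul, map_mul, map_inv, show α h = h from hQK hh] at h1
      calc h * (g⁻¹ * α g) = g⁻¹ * (g * h * g⁻¹) * α g := by group
        _ = g⁻¹ * (α g * h * (α g)⁻¹) * α g := by rw [h1]
        _ = g⁻¹ * α g * h := by group
    have hpw := pow_apply_of_fix α (a := 1) (map_one α) (hQK (hCQ hc)) (g := g) (by group) (orderOf α)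
    rw [pow_orderOf_eq_one, MulAut.one_apply, one_pow, one_mul, left_eq_mul] at hpw
    obtain ⟨j, hj⟩ := hQ ⟨_, hCQ hc⟩
    have := eq_one_of_pow_eq_one hα hpw (congrArg Subtype.val hj)
    exact (inv_mul_eq_one.1 this).symm
  · exact hNA.trans (hrec hlt hA (hAT.trans (hTNK.trans inf_le_right)))

/-- Fixed points are closed under centralisers of their nontrivial `p`-elements. -/
theorem mem_fixSub_of_commute (hG : NoRegularTriv p G) {α : MulAut G} (hα : ¬ p ∣ orderOf α)
    (U : Sylow p G) (hU : ∀ x ∈ (U : Subgroup G), α x = x) {x y : G} (hx : x ∈ fixSub α) (hx1 : x ≠ 1)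
    (hxp : ∃ k : ℕ, x ^ p ^ k = 1) (h : Commute x y) : y ∈ fixSub α := by
  obtain ⟨k, hk⟩ := hxp
  refine normalizer_le_fixSub hG hα U hU (Q := Subgroup.zpowers x) ?_ ?_ (Subgroup.zpowers_le.2 hx) ?_
  · obtain ⟨j, -, hj⟩ := (Nat.dvd_prime_pow Fact.out).1 (orderOf_dvd_of_pow_eq_one hk)
    exact IsPGroup.of_card (n := j) (by rw [Nat.card_zpowers, hj])
  · simp [hx1]
  · refine Subgroup.centralizer_le_normalizer _ (Subgroup.mem_centralizer_iff.2 ?_)
    rintro _ ⟨i, rfl⟩
    exact (h.zpow_left i).eq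

theorem eq_one_of_forall_conj [IsSimpleGroup G] {α : MulAut G} {x : G} (hx : x ≠ 1)
    (h : ∀ g : G, α (g * x * g⁻¹) = g * x * g⁻¹) : α = 1 := by
  have htop : Subgroup.normalClosure {x} = ⊤ :=
    (IsSimpleGroup.eq_bot_or_eq_top_of_normal _ Subgroup.normalClosure_normal).resolve_left fun e =>
      hx (Subgroup.mem_bot.1 (e ▸ Subgroup.subset_normalClosure rfl))
  have hle : Subgroup.normalClosure {x} ≤ fixSub α := by
    rw [Subgroup.normalClosure, Subgroup.closure_le]
    intro y hy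
    rw [Group.mem_conjugatesOfSet_iff] at hy
    obtain ⟨a, rfl, hc⟩ := hy
    obtain ⟨g, rfl⟩ := isConj_iff.1 hc
    exact h g
  exact MulEquiv.ext fun g => hle (htop ▸ Subgroup.mem_top g)

/-- A conjugacy class of `p`-elements connected by commutation: trivial automorphisms. -/
theorem fixTriv_of_linked [IsSimpleGroup G] {E : Type v} [Group E] (hG : NoRegularTriv p G)
    (π : E →* G) (hπ : Function.Surjective π) {x₀ : E} (hx₀ : π x₀ ≠ 1) (hp₀ : ∃ k : ℕ, x₀ ^ p ^ k = 1)
    (hlink : ∀ C : Set E, (∀ x y, x ∈ C → π x ≠ 1 → (∃ k : ℕ, x ^ p ^ k = 1) → Commute x y → y ∈ C) →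
      x₀ ∈ C → ∀ g : E, g * x₀ * g⁻¹ ∈ C) : FixTriv p G := by
  intro U α hα hU
  obtain ⟨k, hk⟩ := hp₀
  have hpk : (π x₀) ^ p ^ k = 1 := by rw [← map_pow, hk, map_one]
  obtain ⟨j, -, hj⟩ := (Nat.dvd_prime_pow Fact.out).1 (orderOf_dvd_of_pow_eq_one hpk)
  obtain ⟨P, hP⟩ := (IsPGroup.of_card (p := p) (G := Subgroup.zpowers (π x₀)) (n := j)
    (by rw [Nat.card_zpowers, hj])).exists_le_sylow
  obtain ⟨g, hg⟩ := MulAction.exists_smul_eq G P U
  obtain ⟨g', rfl⟩ := hπ g
  have hmem : π g' * π x₀ * (π g')⁻¹ ∈ (U : Subgroup G) := by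
    rw [← hg, Sylow.coe_subgroup_smul]
    exact Subgroup.smul_mem_pointwise_smul _ (MulAut.conj (π g')) _ (hP (Subgroup.mem_zpowers _))
  have hC := hlink {y : E | π (g' * y * g'⁻¹) ∈ fixSub α} (fun x y hx hx1 ⟨i, hi⟩ hxy => ?_) (by
    show π (g' * x₀ * g'⁻¹) ∈ fixSub α
    rw [map_mul, map_mul, map_inv]
    exact hU _ hmem)
  · refine eq_one_of_forall_conj hx₀ fun a => ?_
    obtain ⟨a', rfl⟩ := hπ a
    have h1 : π (g' * (g'⁻¹ * a' * x₀ * (g'⁻¹ * a')⁻¹) * g'⁻¹) ∈ fixSub α := hC (g'⁻¹ * a')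
    rw [show g' * (g'⁻¹ * a' * x₀ * (g'⁻¹ * a')⁻¹) * g'⁻¹ = a' * x₀ * a'⁻¹ by group, map_mul,
      map_mul, map_inv] at h1
    exact h1
  · refine mem_fixSub_of_commute hG hα U hU hx ?_ ⟨i, ?_⟩ ((hxy.conj g').map π)
    · rw [map_mul, map_mul, map_inv, ne_eq, conj_eq_one_iff]
      exact hx1
    · rw [← map_pow, conj_pow, hi, mul_one, mul_inv_cancel, map_one]

/-- Two double cosets, one of them regular for a fixed `p`-subgroup: trivial automorphisms. -/
theorem fixTriv_of_two_cells [IsSimpleGroup G] (A S : Subgroup G)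
    (hA : IsPGroup p A) (hA1 : A ≠ ⊥) (hAS : A ≤ S)
    (hS : ∀ α : MulAut G, ¬ p ∣ orderOf α → ∀ P : Sylow p G, (∀ x ∈ (P : Subgroup G), α x = x) →
      A ≤ P → ∀ s ∈ S, α s = s)
    (hST : S ≠ ⊤) (n : G) (hcell : ∀ g, g ∈ S ∨ ∃ u ∈ A, n⁻¹ * u⁻¹ * g ∈ S)
    (hfree : ∀ u ∈ A, n⁻¹ * u * n ∈ S → u = 1) : FixTriv p G := by
  obtain ⟨P, hP⟩ := hA.exists_le_sylow
  refine fixTriv_of_one P fun α hα hPf => ?_
  have hAK : A ≤ fixSub α := fun x hx => hPf x (hP hx)
  have hSK : ∀ s ∈ S, α s = s := hS α hα P hPf hP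
  obtain ⟨u₁, hu₁, hu1⟩ := A.bot_or_exists_ne_one.resolve_left hA1
  have hn : n ∉ S := fun h => hu1 (hfree u₁ hu₁ (mul_mem (mul_mem (inv_mem h) (hAS hu₁)) h))
  obtain ⟨u₀, hu₀, hs₀⟩ := (hcell (α n)).resolve_left fun h => hn (by
    have := hSK _ h
    rwa [α.injective this] at h)
  obtain ⟨s₀, hs₀def⟩ : ∃ s₀, s₀ = n⁻¹ * u₀⁻¹ * α n := ⟨_, rfl⟩
  rw [← hs₀def] at hs₀
  have hαn : α n = u₀ * n * s₀ := by rw [hs₀def]; group
  have hk := pow_apply_of_fix α (hAK hu₀) (hSK _ hs₀) hαn (orderOf α)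
  rw [pow_orderOf_eq_one, MulAut.one_apply] at hk
  have hu0k : u₀ ^ orderOf α = 1 := hfree _ (pow_mem hu₀ _) (by
    have h2 : n⁻¹ * u₀ ^ orderOf α * n = (s₀ ^ orderOf α)⁻¹ := by
      rw [eq_inv_iff_mul_eq_one]
      calc n⁻¹ * u₀ ^ orderOf α * n * s₀ ^ orderOf α = n⁻¹ * (u₀ ^ orderOf α * n * s₀ ^ orderOf α) := by
            group
        _ = 1 := by rw [← hk, inv_mul_cancel]
    rw [h2]
    exact inv_mem (pow_mem hs₀ _))
  obtain ⟨j, hj⟩ := hA ⟨u₀, hu₀⟩
  obtain rfl := eq_one_of_pow_eq_one hα hu0k (congrArg Subtype.val hj)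
  rw [one_mul] at hαn
  have hc : ∀ g, g⁻¹ * α g ∈ S := fun g => by
    rcases hcell g with hg | ⟨u, hu, hs⟩
    · rw [hSK g hg, inv_mul_cancel]; exact one_mem S
    · have h2 : α g = u * (n * s₀) * (n⁻¹ * u⁻¹ * g) := by
        calc α g = α (u * n * (n⁻¹ * u⁻¹ * g)) := congrArg α (by group)
          _ = u * (n * s₀) * (n⁻¹ * u⁻¹ * g) := by
            rw [map_mul, map_mul, mem_fixSub.1 (hAK hu), hαn, hSK _ hs]
      have h3 : g⁻¹ * α g = (n⁻¹ * u⁻¹ * g)⁻¹ * s₀ * (n⁻¹ * u⁻¹ * g) := by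
        conv_lhs => rw [h2]
        group
      rw [h3]
      exact mul_mem (mul_mem (inv_mem hs) hs₀) hs
  refine MulEquiv.ext fun h => ?_
  have hconj : ∀ g : G, g * (h⁻¹ * α h) * g⁻¹ ∈ S := fun g => by
    have h1 := mul_mem (hc (h * g⁻¹)) (inv_mem (hc g⁻¹))
    rwa [show (h * g⁻¹)⁻¹ * α (h * g⁻¹) * (g⁻¹⁻¹ * α g⁻¹)⁻¹ = g * (h⁻¹ * α h) * g⁻¹ by
      rw [map_mul]; group] at h1
  have hle : Subgroup.normalClosure {h⁻¹ * α h} ≤ S := by
    rw [Subgroup.normalClosure, Subgroup.closure_le]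
    intro y hy
    rw [Group.mem_conjugatesOfSet_iff] at hy
    obtain ⟨a, rfl, hc'⟩ := hy
    obtain ⟨g, rfl⟩ := isConj_iff.1 hc'
    exact hconj g
  rcases IsSimpleGroup.eq_bot_or_eq_top_of_normal _ (Subgroup.normalClosure_normal (s := {h⁻¹ * α h})) with
    e | e
  · have h1 : h⁻¹ * α h ∈ Subgroup.normalClosure {h⁻¹ * α h} := Subgroup.subset_normalClosure rfl
    rw [e, Subgroup.mem_bot, inv_mul_eq_one] at h1
    exact h1.symm
  · exact absurd (top_le_iff.1 (e ▸ hle)) hST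

/-- The hypothesis of `fixTriv_of_two_cells` from radical centralisers. -/
theorem fix_of_normalizer (hG : NoRegularTriv p G) {A S : Subgroup G} (hA : IsPGroup p A)
    (hA1 : A ≠ ⊥) (hS : S ≤ Subgroup.normalizer (A : Set G)) :
    ∀ α : MulAut G, ¬ p ∣ orderOf α → ∀ P : Sylow p G, (∀ x ∈ (P : Subgroup G), α x = x) →
      A ≤ P → ∀ s ∈ S, α s = s :=
  fun _ hα P hP hAP _ hs => normalizer_le_fixSub hG hα P hP hA hA1 (fun x hx => hP x (hAP hx)) (hS hs)

end CfsgLib.Lie.FixSylow
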