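import Cfsg.Agent.Lib.Lie.FixSylow.Twisted
import Cfsg.Agent.Lib.Blocks.DefectLie.Exceptional

/-!
Automorphisms of order prime to `p` centralising a Sylow subgroup: the exceptional groups.
-/

set_option autoImplicit false

namespace CfsgLib.Lie.FixSylow

open CfsgLib.Lie.Chev CfsgLib.Lie.Chev.TwGroups CfsgLib.Blocks.DefectLie
open Cfsg.Lie (ChevalleyDatum)

theorem fixTriv_chev {F : Type} [Field F] [Fintype F] (p : ℕ) [Fact p.Prime] [CharP F p]
    {D : ChevalleyDatum} (hD : D ∈ [Cfsg.Lie.chevG2, Cfsg.Lie.chevB2, Cfsg.Lie.chevD4, Cfsg.Lie.chevF4,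
      Cfsg.Lie.chevE6, Cfsg.Lie.chevE7, Cfsg.Lie.chevE8]) [IsSimpleGroup ↥(D.group F)] : FixTriv p ↥(D.group F) := by
  obtain ⟨A, hC, hdesc⟩ := exists_desc hD
  haveI := (chevRel hC F).Finite_of_field
  obtain ⟨P, hP⟩ := exists_sylow_UP hC F p
  obtain ⟨T, hT⟩ : ∃ T, T = idTw (chevRel hC F) hdesc := ⟨_, rfl⟩
  have htop : T.P1 = ⊤ := by rw [hT]; rfl
  refine FixTriv.of_equiv (H := ↥T.P1) ?_ ((MulEquiv.subgroupCongr htop).trans Subgroup.topEquiv).symm
  haveI : IsSimpleGroup ↥T.P1 :=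
    ((MulEquiv.subgroupCongr htop).trans Subgroup.topEquiv).isSimpleGroup
  have hU : IsPGroup p T.U1 := (hP ▸ P.isPGroup' : IsPGroup p (chevRel hC F).UP).comap_subtype
  have hidx : ¬ p ∣ T.U1.index := by
    show ¬ p ∣ (chevRel hC F).UP.relIndex T.P1
    rw [htop, Subgroup.relIndex_top_right, ← hP]
    exact P.not_dvd_index
  have hk : 0 < T.κ := by
    rw [hT]; show 0 < D.rank
    fin_cases hD <;> decide
  exact fixTriv_tw T ⟨0, hk⟩ hU hidx

section Twisted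

variable {D : ChevalleyDatum} {X : Aux} {F : Type*} [Field F] {G : Type*} [Group G] {R : Rel D X F G}
  (T : TwG R)

theorem fixTriv_twisted [Finite F] [Finite G] {p : ℕ} [Fact p.Prime] [CharP F p] {c d e0 : ℕ}
    (hd : 0 < d) (hcc : T.ClassCard c d) (hc2 : ∃ j, 1 ≤ j ∧ c = p ^ j) {l : List ℤ}
    (hl : ¬ (p : ℤ) ∣ l.headD 0)
    (hcard : (Nat.card ↥T.P1 : ℤ) = (c : ℤ) ^ e0 * (Nat.card ↥(T.P1 ⊓ R.HS) : ℤ) * horner (c : ℤ) l)
    (he0 : half D = d * e0) [IsSimpleGroup ↥T.P1] (k₀ : Fin T.κ) : FixTriv p ↥T.P1 := by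
  haveI : Fintype F := Fintype.ofFinite F
  have hp : p.Prime := Fact.out
  obtain ⟨j, hj, rfl⟩ := hc2
  obtain ⟨e, he, hU⟩ := T.card_U1 hd hcc
  obtain rfl : e0 = e := Nat.eq_of_mul_eq_mul_left hd (he0.symm.trans he)
  have hUc : Nat.card ↥T.U1 = p ^ (j * e0) := by
    rw [show T.U1 = (T.P1 ⊓ R.UP).subgroupOf T.P1 by
        rw [inf_comm, Subgroup.inf_subgroupOf_right]; rfl,
      Nat.card_congr (Subgroup.subgroupOfEquivOfLe inf_le_left).toEquiv, hU, pow_mul]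
  have hidx : ¬ p ∣ T.U1.index := by
    have h1 : (Nat.card ↥T.U1 : ℤ) * (T.U1.index : ℤ) = (Nat.card ↥T.U1 : ℤ) *
        ((Nat.card ↥(T.P1 ⊓ R.HS) : ℤ) * horner ((p ^ j : ℕ) : ℤ) l) := by
      rw [← Nat.cast_mul, T.U1.card_mul_index, hcard, hUc]
      push_cast
      rw [← pow_mul]
      ring
    have h2 := mul_left_cancel₀ (Int.natCast_ne_zero.2 Nat.card_pos.ne') h1
    intro hdvd
    have h3 : (p : ℤ) ∣ (T.U1.index : ℤ) := by exact_mod_cast hdvd
    rw [h2] at h3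
    rcases (Nat.prime_iff_prime_int.1 hp).dvd_or_dvd h3 with h4 | h4
    · have h5 : p ∣ Nat.card ↥(T.P1 ⊓ R.HS) := by exact_mod_cast h4
      have h6 := (h5.trans (Subgroup.card_dvd_of_le inf_le_right)).trans
        (Subgroup.card_dvd_of_surjective _ R.torusHom_surjective)
      rw [Nat.card_fun, Nat.card_units, Nat.card_eq_fintype_card (α := F)] at h6
      have h7 := hp.dvd_of_dvd_pow h6
      obtain ⟨n, -, hn⟩ := FiniteField.card F p
      have h8 : p ∣ Fintype.card F := hn ▸ dvd_pow_self p n.ne_zero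
      have h9 := Nat.dvd_sub h8 h7
      rw [Nat.sub_sub_self Fintype.card_pos] at h9
      exact hp.not_dvd_one h9
    · rcases l with _ | ⟨a, l⟩
      · simp at hl
      rw [horner] at h4
      refine hl ((Int.dvd_add_left ?_).1 h4)
      exact Dvd.dvd.mul_right (by exact_mod_cast dvd_pow_self p (show j ≠ 0 by omega)) _
  exact fixTriv_tw T k₀ (IsPGroup.of_card hUc) hidx

end Twisted

variable {K : Type} [Field K] [Fintype K]

theorem fixTriv_E6 {p q : ℕ} [Fact p.Prime] [CharP K p] (hq : IsPrimePow q)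
    (hK : Fintype.card K = q ^ 2)
    [IsSimpleGroup ↥(Cfsg.Lie.twistedE6 K q)] :
    FixTriv p ↥(Cfsg.Lie.twistedE6 K q) := by
  haveI := (chevRel certE6 K).Finite_of_field
  haveI : Finite ↥(Cfsg.Lie.twistedE6 K q) := Finite.of_injective _
    (Subgroup.inclusion_injective (twE6_le (K := K) (q := q)))
  refine FixTriv.of_equiv ?_ ((MulEquiv.subgroupCongr (twE6_P1 hq hK)).trans
    (Subgroup.subgroupOfEquivOfLe twE6_le)).symm
  haveI : IsSimpleGroup ↥(twE6 hq hK).P1 := ((MulEquiv.subgroupCongr (twE6_P1 hq hK)).trans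
    (Subgroup.subgroupOfEquivOfLe twE6_le)).isSimpleGroup
  exact fixTriv_twisted (twE6 hq hK) one_pos (classCardE6 hq hK)
    (exists_pow_of_card hq hK two_ne_zero) (l := layerPoly layersTE6) (headD_E6 ▸ not_dvd_one_int)
    ((twE6 hq hK).card_P1_enum (orbListE6 hq hK) rfl wordsTE6_ok enumTE6_ok one_pos (classCardE6 hq hK)
      (show half Cfsg.Lie.chevE6 = 1 * 36 by decide +kernel))
    (show half Cfsg.Lie.chevE6 = 1 * 36 by decide +kernel) ⟨0, Nat.succ_pos _⟩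

theorem fixTriv_D4 {p q : ℕ} [Fact p.Prime] [CharP K p] (hq : IsPrimePow q)
    (hK : Fintype.card K = q ^ 3)
    [IsSimpleGroup ↥(Cfsg.Lie.twistedD4 K q)] :
    FixTriv p ↥(Cfsg.Lie.twistedD4 K q) := by
  haveI := (chevRel certD4 K).Finite_of_field
  haveI : Finite ↥(Cfsg.Lie.twistedD4 K q) := Finite.of_injective _
    (Subgroup.inclusion_injective (twD4_le (K := K) (q := q)))
  refine FixTriv.of_equiv ?_ ((MulEquiv.subgroupCongr (twD4_P1 hq hK)).trans
    (Subgroup.subgroupOfEquivOfLe twD4_le)).symm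
  haveI : IsSimpleGroup ↥(twD4 hq hK).P1 := ((MulEquiv.subgroupCongr (twD4_P1 hq hK)).trans
    (Subgroup.subgroupOfEquivOfLe twD4_le)).isSimpleGroup
  exact fixTriv_twisted (twD4 hq hK) one_pos (classCardD4 hq hK)
    (exists_pow_of_card hq hK three_ne_zero) (l := layerPoly layersTD4) (headD_D4 ▸ not_dvd_one_int)
    ((twD4 hq hK).card_P1_enum (orbListD4 hq hK) rfl wordsTD4_ok enumTD4_ok one_pos (classCardD4 hq hK)
      (show half Cfsg.Lie.chevD4 = 1 * 12 by decide +kernel))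
    (show half Cfsg.Lie.chevD4 = 1 * 12 by decide +kernel) ⟨0, Nat.succ_pos _⟩

theorem fixTriv_F4 {m : ℕ} (hK : Fintype.card K = 2 ^ (2 * m + 1))
    [IsSimpleGroup ↥(Cfsg.Lie.twistedF4 K (2 ^ m))] :
    FixTriv 2 ↥(Cfsg.Lie.twistedF4 K (2 ^ m)) := by
  haveI : Fact (Nat.Prime 2) := ⟨Nat.prime_two⟩
  haveI := charF4 hK
  haveI := (chevRel certF4 K).Finite_of_field
  haveI : Finite ↥(Cfsg.Lie.twistedF4 K (2 ^ m)) := Finite.of_injective _
    (Subgroup.inclusion_injective (twF4_le (K := K) (m := m)))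
  refine FixTriv.of_equiv ?_ ((MulEquiv.subgroupCongr (twF4_P1 hK)).trans
    (Subgroup.subgroupOfEquivOfLe twF4_le)).symm
  haveI : IsSimpleGroup ↥(twF4 hK).P1 := ((MulEquiv.subgroupCongr (twF4_P1 hK)).trans
    (Subgroup.subgroupOfEquivOfLe twF4_le)).isSimpleGroup
  exact fixTriv_twisted (twF4 hK) two_pos (classCardF4 hK) ⟨2 * m + 1, by omega, rfl⟩
    (l := layerPoly layersTF4) (headD_F4 ▸ not_dvd_one_int)
    ((twF4 hK).card_P1_enum (orbListF4 hK) rfl wordsTF4_ok enumTF4_ok two_pos (classCardF4 hK)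
      (show half Cfsg.Lie.chevF4 = 2 * 12 by decide +kernel))
    (show half Cfsg.Lie.chevF4 = 2 * 12 by decide +kernel) ⟨0, Nat.succ_pos _⟩

theorem fixTriv_Ree {m : ℕ} (hK : Fintype.card K = 3 ^ (2 * m + 1))
    [IsSimpleGroup ↥(Cfsg.Lie.twistedG2 K (3 ^ m))] :
    FixTriv 3 ↥(Cfsg.Lie.twistedG2 K (3 ^ m)) := by
  haveI : Fact (Nat.Prime 3) := ⟨Nat.prime_three⟩
  haveI := charG2 hK
  haveI := (chevRel certG2 K).Finite_of_field
  haveI : Finite ↥(Cfsg.Lie.twistedG2 K (3 ^ m)) := Finite.of_injective _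
    (Subgroup.inclusion_injective (twG2_le (K := K) (m := m)))
  refine FixTriv.of_equiv ?_ ((MulEquiv.subgroupCongr (twG2_P1 hK)).trans
    (Subgroup.subgroupOfEquivOfLe twG2_le)).symm
  haveI : IsSimpleGroup ↥(twG2 hK).P1 := ((MulEquiv.subgroupCongr (twG2_P1 hK)).trans
    (Subgroup.subgroupOfEquivOfLe twG2_le)).isSimpleGroup
  exact fixTriv_twisted (twG2 hK) two_pos (classCardG2 hK) ⟨2 * m + 1, by omega, rfl⟩
    (l := layerPoly layersTG2) (headD_G2 ▸ not_dvd_one_int)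
    ((twG2 hK).card_P1_enum (orbListG2 hK) rfl wordsTG2_ok enumTG2_ok two_pos (classCardG2 hK)
      (show half Cfsg.Lie.chevG2 = 2 * 3 by decide +kernel))
    (show half Cfsg.Lie.chevG2 = 2 * 3 by decide +kernel) ⟨0, Nat.succ_pos _⟩

end CfsgLib.Lie.FixSylow
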