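import Cfsg.Agent.Lib.Lie.FixSylow.Core
import Cfsg.Agent.Lib.Blocks.DefectLie.Linear

/-!
Automorphisms of order prime to `p` centralising a Sylow subgroup: general tools for the classical
groups, and the projective special linear groups.
-/

set_option autoImplicit false

namespace CfsgLib.Lie.FixSylow

open CfsgLib.Blocks.DefectLie

universe u v w

variable {F : Type u} [Field F] {V : Type v} [AddCommGroup V] [Module F V] {E : Type w} [Group E]
  (ρ : E →* (V ≃ₗ[F] V)) {p : ℕ} [Fact p.Prime]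

/-- A linear map `1 + f` with `f ∘ f = 0` has order dividing `p`. -/
theorem pow_prime_of_trans [CharP F p] (hρ : Function.Injective ρ) {x : E} (f : V → V)
    (hx : ∀ v, ρ x v = v + f v) (hf : ∀ v, ρ x (f v) = f v) : x ^ p = 1 := by
  have hk : ∀ (k : ℕ) v, ρ (x ^ k) v = v + (k : F) • f v := by
    intro k
    induction k with
    | zero => intro v; simp
    | succ k ih =>
      intro v
      rw [pow_succ', map_mul, LinearEquiv.mul_apply, ih, map_add, map_smul, hx, hf]
      push_cast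
      module
  refine hρ (LinearEquiv.ext fun v => ?_)
  rw [hk, CharP.cast_eq_zero, zero_smul, add_zero, map_one]
  rfl

/-- A nontrivial `p`-element survives modulo a centre of order prime to `p`. -/
theorem map_ne_one {G : Type*} [Group G] (π : E →* G) (hker : π.ker = Subgroup.center E)
    (hc : ¬ p ∣ Nat.card (Subgroup.center E)) {x : E} (hx : x ^ p = 1) (hx1 : x ≠ 1) : π x ≠ 1 := by
  intro h
  have h1 : x ∈ Subgroup.center E := hker ▸ h
  refine hc ?_
  rw [← orderOf_eq_prime hx hx1]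
  exact Subgroup.orderOf_dvd_natCard _ h1

/-- Two orbits on lines, one regular under the flag group: trivial automorphisms. -/
theorem fixTriv_of_lines [Finite E] [Nontrivial V] [CharP F p] (hρ : Function.Injective ρ)
    {G : Type*} [Group G] [Finite G] [IsSimpleGroup G] (π : E →* G) (hπ : Function.Surjective π)
    (hker : π.ker = Subgroup.center E) (hc : ¬ p ∣ Nat.card (Subgroup.center E))
    (hG : NoRegularTriv p G) (hsc : ∀ z ∈ Subgroup.center E, ∃ a : F, ∀ v, ρ z v = a • v)
    {e : V} (W : Submodule F V) (hle : Submodule.span F {e} ≤ W)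
    (hW : ∀ g : E, ρ g e ∈ Submodule.span F {e} → ∀ w ∈ W, ρ g w ∈ W)
    (n : E) (hn : ρ n e ∉ Submodule.span F {e})
    (hne : ∃ u ∈ flagFix ρ (Submodule.span F {e}) W, u ≠ 1)
    (htrans : ∀ g : E, ρ g e ∉ Submodule.span F {e} →
      ∃ u ∈ flagFix ρ (Submodule.span F {e}) W, ρ g e ∈ Submodule.span F {ρ u (ρ n e)})
    (hfree : ∀ u ∈ flagFix ρ (Submodule.span F {e}) W, ρ u (ρ n e) ∈ Submodule.span F {ρ n e} → u = 1) :
    FixTriv p G := by
  set L := Submodule.span F {e} with hL
  set A' := flagFix ρ L W with hA'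
  have hA'p : IsPGroup p A' := isPGroup_flagFix ρ hρ L W
  -- the stabiliser of the line
  have hline : ∀ g : E, ρ g e ∈ L → ∀ w ∈ L, ρ g w ∈ L := fun g hg w hw => by
    obtain ⟨c, rfl⟩ := Submodule.mem_span_singleton.1 hw
    rw [map_smul]
    exact L.smul_mem c hg
  haveI : Finite E := ‹_›
  let S' : Subgroup E :=
    { carrier := {g | ρ g e ∈ L}
      one_mem' := by simp [hL, Submodule.mem_span_singleton_self]
      mul_mem' := fun {a b} ha hb => by
        show ρ (a * b) e ∈ L
        rw [map_mul, LinearEquiv.mul_apply]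
        exact hline a ha _ hb
      inv_mem' := fun {a} ha => by
        obtain ⟨c, hc'⟩ := Submodule.mem_span_singleton.1 ha
        show ρ a⁻¹ e ∈ L
        have h1 : ρ a⁻¹ (ρ a e) = e := by
          rw [← LinearEquiv.mul_apply, ← map_mul, inv_mul_cancel, map_one]; rfl
        rw [← hc', map_smul] at h1
        by_cases hc0 : c = 0
        · rw [hc0, zero_smul] at h1
          rw [← h1]; simp
        · exact Submodule.mem_span_singleton.2 ⟨c⁻¹, by
            conv_lhs => rw [← h1]
            rw [inv_smul_smul₀ hc0]⟩ }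
  have hA'S : A' ≤ S' := fun g hg => by
    show ρ g e ∈ L
    rw [hg.1 e (Submodule.mem_span_singleton_self e)]
    exact Submodule.mem_span_singleton_self e
  have hkerS : π.ker ≤ S' := fun z hz => by
    obtain ⟨a, ha⟩ := hsc z (hker ▸ hz)
    show ρ z e ∈ L
    rw [ha]
    exact L.smul_mem a (Submodule.mem_span_singleton_self e)
  have hnorm : ∀ g ∈ S', ∀ a ∈ A', g * a * g⁻¹ ∈ A' := by
    intro g hg a ha
    have hi : ∀ v, ρ (g * a * g⁻¹) v = ρ g (ρ a (ρ g⁻¹ v)) := fun v => by rw [map_mul, map_mul]; rfl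
    have hgg : ∀ v, ρ g (ρ g⁻¹ v) = v := fun v => by
      rw [← LinearEquiv.mul_apply, ← map_mul, mul_inv_cancel, map_one]; rfl
    refine ⟨fun w hw => ?_, fun w hw => ?_, fun v => ?_⟩
    · rw [hi, ha.1 _ (hline _ (S'.inv_mem hg) w hw), hgg]
    · obtain ⟨a1, a2⟩ := ha.2.1 _ (hW _ (S'.inv_mem hg) w hw)
      refine ⟨?_, by rw [hi]; exact hW _ hg _ a2⟩
      have := hline _ hg _ a1
      rwa [map_sub, hgg, ← hi] at this
    · have := hW _ hg _ (ha.2.2 (ρ g⁻¹ v))
      rwa [map_sub, hgg, ← hi] at this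
  have hS : S'.map π ≤ Subgroup.normalizer ((A'.map π : Subgroup G) : Set G) := by
    refine le_trans (Subgroup.map_mono fun g hg => ?_) (Subgroup.le_normalizer_map π)
    refine Subgroup.mem_normalizer_iff.2 fun a => ⟨hnorm g hg a, fun h => ?_⟩
    simpa [mul_assoc] using hnorm g⁻¹ (S'.inv_mem hg) _ h
  have hne' : A'.map π ≠ ⊥ := by
    obtain ⟨u, hu, hu1⟩ := hne
    intro h
    obtain ⟨j, hj⟩ := hA'p ⟨u, hu⟩
    refine hu1 ?_
    have h1 : u ∈ π.ker := Subgroup.mem_bot.1 (h ▸ ⟨u, hu, rfl⟩ : π u ∈ (⊥ : Subgroup G))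
    have h2 : u ^ p ^ j = 1 := congrArg Subtype.val hj
    exact orderOf_eq_one_iff.1 (Nat.eq_one_of_dvd_coprimes
      (Nat.Coprime.pow_left j ((Fact.out : p.Prime).coprime_iff_not_dvd.2 hc))
      (orderOf_dvd_of_pow_eq_one h2) (hker ▸ Subgroup.orderOf_dvd_natCard _ h1))
  refine fixTriv_of_two_cells (A'.map π) (S'.map π) (hA'p.map _) hne' (Subgroup.map_mono hA'S)
    (fix_of_normalizer hG (hA'p.map _) hne' hS) ?_ (π n) (fun g => ?_) fun u hu h => ?_
  · intro h
    have h1 : S' = ⊤ := by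
      rw [← Subgroup.comap_map_eq_self hkerS, h, Subgroup.comap_top]
    exact hn (show n ∈ S' from h1 ▸ Subgroup.mem_top n)
  · obtain ⟨g, rfl⟩ := hπ g
    by_cases hg : ρ g e ∈ L
    · exact Or.inl ⟨g, hg, rfl⟩
    obtain ⟨u, hu, hgu⟩ := htrans g hg
    refine Or.inr ⟨π u, ⟨u, hu, rfl⟩, ⟨n⁻¹ * u⁻¹ * g, ?_, by simp⟩⟩
    obtain ⟨c, hc'⟩ := Submodule.mem_span_singleton.1 hgu
    show ρ (n⁻¹ * u⁻¹ * g) e ∈ L
    rw [map_mul, LinearEquiv.mul_apply, ← hc', map_smul]
    refine L.smul_mem c ?_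
    rw [← LinearEquiv.mul_apply, ← LinearEquiv.mul_apply, ← map_mul, ← map_mul,
      show n⁻¹ * u⁻¹ * u * n = 1 by group, map_one]
    exact Submodule.mem_span_singleton_self e
  · obtain ⟨u, hu, rfl⟩ := hu
    have h1 : n⁻¹ * u * n ∈ S' := by
      rw [← Subgroup.comap_map_eq_self hkerS]
      show π (n⁻¹ * u * n) ∈ S'.map π
      rw [map_mul, map_mul, map_inv]
      exact h
    rw [hfree u hu ?_, map_one]
    obtain ⟨c, hc'⟩ := Submodule.mem_span_singleton.1 (show ρ (n⁻¹ * u * n) e ∈ L from h1)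
    refine Submodule.mem_span_singleton.2 ⟨c, ?_⟩
    rw [← map_smul, hc', ← LinearEquiv.mul_apply, ← LinearEquiv.mul_apply, ← map_mul, ← map_mul,
      show n * (n⁻¹ * u * n) = u * n by group]

section PSL

variable {K : Type u} [Field K] [Fintype K] [CharP K p] {n : ℕ}

theorem fixTriv_PSL (hn : 2 ≤ n) [IsSimpleGroup (Matrix.ProjectiveSpecialLinearGroup (Fin n) K)] :
    FixTriv p (Matrix.ProjectiveSpecialLinearGroup (Fin n) K) := by
  haveI : Nonempty (Fin n) := ⟨⟨0, by omega⟩⟩
  set π := QuotientGroup.mk' (Subgroup.center (Matrix.SpecialLinearGroup (Fin n) K))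
  have hπ : Function.Surjective π := QuotientGroup.mk'_surjective _
  have hker : π.ker = Subgroup.center _ := QuotientGroup.ker_mk' _
  have hsc : ∀ z ∈ Subgroup.center (Matrix.SpecialLinearGroup (Fin n) K),
      ∃ a : K, ∀ v, slRep n K z v = a • v := fun z hz => by
    obtain ⟨r, -, hr⟩ := Matrix.SpecialLinearGroup.mem_center_iff.1 hz
    exact ⟨r, fun v => by rw [slRep_apply, ← hr]; simp⟩
  have hc := not_dvd_card_center (p := p) (slRep n K) slRep_injective hsc
  have hG : NoRegularTriv p (Matrix.ProjectiveSpecialLinearGroup (Fin n) K) :=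
    noRegularCent_of_surjective π hπ hker (by rw [hker]; exact hc) (noRegularCent_SL (by omega))
  set ρ := slRep n K
  have hρ : Function.Injective ρ := slRep_injective
  have hV : Module.finrank K (Fin n → K) = n := Module.finrank_fin_fun K
  obtain ⟨e, he⟩ := exists_ne (0 : Fin n → K)
  have hspan : Submodule.span K {e} ≠ ⊤ := fun h => by
    have := finrank_span_singleton (K := K) he
    rw [h, finrank_top, hV] at this
    omega
  obtain ⟨v₀, -, hv₀⟩ := SetLike.exists_of_lt (lt_top_iff_ne_top.2 hspan)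
  obtain ⟨φ, hφ, hφe⟩ := Submodule.exists_dual_map_eq_bot_of_notMem hv₀ inferInstance
  have hφ0 : φ e = 0 := by
    have h : φ e ∈ (Submodule.span K {e}).map φ := ⟨e, Submodule.mem_span_singleton_self e, rfl⟩
    rwa [hφe, Submodule.mem_bot] at h
  by_cases h3 : n = 2
  · -- two orbits on points
    subst h3
    have hdim : Submodule.span K {e} ⊔ Submodule.span K {v₀} = ⊤ := by
      refine Submodule.eq_top_of_finrank_eq (le_antisymm (Submodule.finrank_le _) ?_)
      rw [hV]
      have hlt : Submodule.span K {e} < Submodule.span K {e} ⊔ Submodule.span K {v₀} :=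
        lt_of_le_of_ne le_sup_left fun h => hv₀ (h ▸ Submodule.mem_sup_right (Submodule.mem_span_singleton_self v₀))
      have := Submodule.finrank_lt_finrank_of_lt hlt
      rw [finrank_span_singleton he] at this
      omega
    have hdec : ∀ v, ∃ a b : K, a • e + b • v₀ = v := fun v => by
      have h1 : v ∈ Submodule.span K {e} ⊔ Submodule.span K {v₀} := hdim ▸ Submodule.mem_top
      obtain ⟨y, hy, z, hz, rfl⟩ := Submodule.mem_sup.1 h1
      obtain ⟨a, rfl⟩ := Submodule.mem_span_singleton.1 hy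
      obtain ⟨b, rfl⟩ := Submodule.mem_span_singleton.1 hz
      exact ⟨a, b, rfl⟩
    obtain ⟨ψ, hψ, hψv⟩ := Submodule.exists_dual_map_eq_bot_of_notMem
      (p := Submodule.span K {v₀}) (x := e) (fun h => by
        obtain ⟨c, rfl⟩ := Submodule.mem_span_singleton.1 h
        by_cases hc0 : c = 0
        · exact he (by rw [hc0, zero_smul])
        · exact hv₀ (Submodule.mem_span_singleton.2 ⟨c⁻¹, inv_smul_smul₀ hc0 _⟩)) inferInstance
    have hψ0 : ψ v₀ = 0 := by
      have h : ψ v₀ ∈ (Submodule.span K {v₀}).map ψ := ⟨v₀, Submodule.mem_span_singleton_self v₀, rfl⟩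
      rwa [hψv, Submodule.mem_bot] at h
    obtain ⟨n₀, hn₀⟩ := exists_sl_transvection ψ hψ0
    have hn₀e : ρ n₀ e ∉ Submodule.span K {e} := fun h => by
      rw [hn₀] at h
      have h1 := Submodule.sub_mem _ h (Submodule.mem_span_singleton_self e)
      rw [add_sub_cancel_left] at h1
      exact hv₀ (by simpa [smul_smul, inv_mul_cancel₀ hψ] using Submodule.smul_mem _ (ψ e)⁻¹ h1)
    have htr : ∀ c : K, ∃ u ∈ flagFix ρ (Submodule.span K {e}) (Submodule.span K {e}),
        ∀ v, ρ u v = v + (c * φ v) • e := fun c => by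
      obtain ⟨u, hu⟩ := exists_sl_transvection (c • φ) (u := e) (by simp [hφ0])
      refine ⟨u, mem_flagFix ρ le_rfl (fun w hw => ?_) (fun w hw => ?_) fun v => ?_,
        fun v => by rw [hu]; rfl⟩
      · obtain ⟨a, rfl⟩ := Submodule.mem_span_singleton.1 hw
        rw [hu]; simp [hφ0]
      · obtain ⟨a, rfl⟩ := Submodule.mem_span_singleton.1 hw
        rw [hu]; simp [hφ0]
      · rw [hu, add_sub_cancel_left]
        exact Submodule.smul_mem _ _ (Submodule.mem_span_singleton_self e)
    refine fixTriv_of_lines ρ hρ π hπ hker hc hG hsc (Submodule.span K {e}) le_rfl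
      (fun g hg w hw => by
        obtain ⟨c, rfl⟩ := Submodule.mem_span_singleton.1 hw
        rw [map_smul]; exact Submodule.smul_mem _ c hg)
      n₀ hn₀e ?_ (fun g hg => ?_) fun u hu hfix => ?_
    · obtain ⟨u, hu, hu'⟩ := htr 1
      refine ⟨u, hu, fun h => ?_⟩
      have h1 := hu' v₀
      rw [h, map_one, LinearEquiv.coe_one, id_eq, one_mul, left_eq_add, smul_eq_zero] at h1
      exact h1.elim hφ he
    · obtain ⟨a, b, hab⟩ := hdec (ρ g e)
      have hb : b ≠ 0 := fun h => hg (by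
        rw [← hab, h, zero_smul, add_zero]
        exact Submodule.smul_mem _ a (Submodule.mem_span_singleton_self e))
      have hφn : φ (ρ n₀ e) = ψ e * φ v₀ := by rw [hn₀, map_add, map_smul, hφ0, zero_add, smul_eq_mul]
      obtain ⟨u, hu, hu'⟩ := htr ((a * ψ e / b - 1) / (ψ e * φ v₀))
      refine ⟨u, hu, Submodule.mem_span_singleton.2 ⟨b / ψ e, ?_⟩⟩
      rw [hu', hφn, hn₀, ← hab, div_mul_cancel₀ _ (mul_ne_zero hψ hφ)]
      match_scalars <;> field_simp <;> ring
    · -- the flag group acts freely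
      refine hρ (LinearEquiv.ext fun v => ?_)
      obtain ⟨c, hc'⟩ := Submodule.mem_span_singleton.1 hfix
      have h1 := hu.2.2 (ρ n₀ e)
      rw [← hc', show c • ρ n₀ e - ρ n₀ e = (c - 1) • ρ n₀ e by rw [sub_smul, one_smul]] at h1
      have hc1 : c = 1 := by
        by_contra hne
        exact hn₀e (by
          simpa [smul_smul, inv_mul_cancel₀ (sub_ne_zero.2 hne)] using
            Submodule.smul_mem _ (c - 1)⁻¹ h1)
      rw [hc1, one_smul] at hc'
      obtain ⟨a, b, rfl⟩ := hdec v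
      have he' := hu.1 e (Submodule.mem_span_singleton_self e)
      have hv' : ρ u v₀ = v₀ := by
        rw [hn₀, map_add, map_smul, he'] at hc'
        exact (smul_right_injective _ hψ (add_left_cancel hc')).symm
      rw [map_add, map_smul, map_smul, he', hv', map_one]
      rfl
  -- transvections
  obtain ⟨x₀, hx₀⟩ := exists_sl_transvection φ hφ0
  have hT : ∀ {t : Matrix.SpecialLinearGroup (Fin n) K} {u : Fin n → K} {χ : Module.Dual K (Fin n → K)},
      (∀ v, ρ t v = v + χ v • u) → χ u = 0 → t ^ p = 1 := fun {t u χ} ht h0 =>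
    pow_prime_of_trans ρ hρ (fun v => χ v • u) ht fun v => by rw [ht]; simp [h0]
  have hcomm : ∀ {t t' : Matrix.SpecialLinearGroup (Fin n) K} {u u' : Fin n → K}
      {χ χ' : Module.Dual K (Fin n → K)}, (∀ v, ρ t v = v + χ v • u) → (∀ v, ρ t' v = v + χ' v • u') →
      χ u' = 0 → χ' u = 0 → Commute t t' := fun {t t' u u' χ χ'} ht ht' h1 h2 =>
    hρ (LinearEquiv.ext fun v => by
      rw [map_mul, map_mul, LinearEquiv.mul_apply, LinearEquiv.mul_apply, ht', ht, ht, ht', map_add, map_add,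
        map_smul, map_smul, h1, h2]
      simp only [smul_eq_mul, mul_zero, add_zero, zero_smul]
      module)
  have hne1 : ∀ {t : Matrix.SpecialLinearGroup (Fin n) K} {u : Fin n → K} {χ : Module.Dual K (Fin n → K)},
      (∀ v, ρ t v = v + χ v • u) → u ≠ 0 → χ ≠ 0 → χ u = 0 → π t ≠ 1 := by
    intro t u χ ht hu hχ h0
    refine map_ne_one π hker hc (hT ht h0) fun h => hχ (LinearMap.ext fun v => ?_)
    have h1 := ht v
    rw [h, map_one, LinearEquiv.coe_one, id_eq, left_eq_add, smul_eq_zero] at h1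
    exact h1.resolve_right hu
  have hφne : φ ≠ 0 := fun h => hφ (by rw [h]; rfl)
  refine fixTriv_of_linked hG π hπ (x₀ := x₀) (hne1 hx₀ he hφne hφ0)
    ⟨1, by rw [pow_one]; exact hT hx₀ hφ0⟩ fun C hC hx g => ?_
  -- the conjugate
  obtain ⟨u', hu'⟩ : ∃ u', u' = ρ g e := ⟨_, rfl⟩
  have hggi : ∀ v, ρ g (ρ g⁻¹ v) = v := fun v => by
    rw [← LinearEquiv.mul_apply, ← map_mul, mul_inv_cancel, map_one]; rfl
  have hgig : ∀ v, ρ g⁻¹ (ρ g v) = v := fun v => by
    rw [← LinearEquiv.mul_apply, ← map_mul, inv_mul_cancel, map_one]; rfl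
  have hy : ∀ v, ρ (g * x₀ * g⁻¹) v = v + (φ.comp (ρ g⁻¹).toLinearMap) v • u' := fun v => by
    rw [map_mul, map_mul, LinearEquiv.mul_apply, LinearEquiv.mul_apply, hx₀, map_add, map_smul, hggi, hu']
    rfl
  have hy0 : (φ.comp (ρ g⁻¹).toLinearMap) u' = 0 := by
    show φ (ρ g⁻¹ u') = 0
    rw [hu', hgig, hφ0]
  -- a linking functional
  have hP : Submodule.span K {e} ⊔ Submodule.span K {u'} ≠ ⊤ := fun h => by
    have h1 := Submodule.finrank_add_le_finrank_add_finrank (Submodule.span K {e}) (Submodule.span K {u'})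
    have h2 : Module.finrank K (Submodule.span K {u'}) ≤ 1 := by
      simpa using finrank_span_le_card (R := K) ({u'} : Set (Fin n → K))
    rw [finrank_span_singleton he, h, finrank_top, hV] at h1
    omega
  obtain ⟨w, -, hw⟩ := SetLike.exists_of_lt (lt_top_iff_ne_top.2 hP)
  obtain ⟨ψ, hψ, hψP⟩ := Submodule.exists_dual_map_eq_bot_of_notMem hw inferInstance
  have hψ' : ∀ x ∈ Submodule.span K {e} ⊔ Submodule.span K {u'}, ψ x = 0 := fun x hx => by
    have h : ψ x ∈ (Submodule.span K {e} ⊔ Submodule.span K {u'}).map ψ := ⟨x, hx, rfl⟩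
    rwa [hψP, Submodule.mem_bot] at h
  have hψe := hψ' e (Submodule.mem_sup_left (Submodule.mem_span_singleton_self e))
  have hψu := hψ' u' (Submodule.mem_sup_right (Submodule.mem_span_singleton_self u'))
  have hψ0 : ψ ≠ 0 := fun h => hψ (by rw [h]; rfl)
  have hu0 : u' ≠ 0 := fun h => he (by
    have h1 : ρ g⁻¹ u' = e := by rw [hu', hgig]
    rw [← h1, h, map_zero])
  obtain ⟨a, ha⟩ := exists_sl_transvection ψ hψe
  obtain ⟨b, hb⟩ := exists_sl_transvection ψ hψu
  have h1 : a ∈ C := hC x₀ a hx (hne1 hx₀ he hφne hφ0) ⟨1, by rw [pow_one]; exact hT hx₀ hφ0⟩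
    (hcomm hx₀ ha hφ0 hψe)
  have h2 : b ∈ C := hC a b h1 (hne1 ha he hψ0 hψe) ⟨1, by rw [pow_one]; exact hT ha hψe⟩
    (hcomm ha hb hψu hψe)
  exact hC b _ h2 (hne1 hb hu0 hψ0 hψu) ⟨1, by rw [pow_one]; exact hT hb hψu⟩ (hcomm hb hy hψu hy0)

end PSL

end CfsgLib.Lie.FixSylow
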