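import Cfsg.Agent.Lib.Lie.FixSylow.Linear
import Cfsg.Agent.Lib.Blocks.DefectLie.Orth
import Cfsg.Agent.Lib.Known.QuadClassify

/-!
Automorphisms of order prime to `p` centralising a Sylow subgroup: projective orthogonal groups.
-/

set_option autoImplicit false

namespace CfsgLib.Lie.FixSylow

open CfsgLib.Blocks.DefectLie
open QuadraticMap (polar polarBilin)
open CfsgLib.Classical.Quad CfsgLib.Known.OmegaCriterion

variable {F : Type*} [Field F] [Finite F] {p : ℕ} [Fact p.Prime] [CharP F p]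
  {V : Type*} [AddCommGroup V] [Module F V] [FiniteDimensional F V] {Q : QuadraticForm F V}

omit [CharP F p] [Fact p.Prime] in
theorem exists_singular_ker_two (hn : 5 ≤ Module.finrank F V) (f g : V →ₗ[F] F) :
    ∃ w : V, w ≠ 0 ∧ Q w = 0 ∧ f w = 0 ∧ g w = 0 := by
  have h1 := LinearMap.finrank_range_add_finrank_ker (f.prod g)
  have h2 : Module.finrank F (LinearMap.range (f.prod g)) ≤ 2 :=
    (Submodule.finrank_le _).trans (by simp)
  obtain ⟨w, hw0, hw⟩ := CfsgLib.Known.QuadClassify.exists_singular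
    (Q.comp (LinearMap.ker (f.prod g)).subtype) (by omega)
  exact ⟨w, fun h => hw0 (Subtype.ext h), hw, congrArg Prod.fst w.2, congrArg Prod.snd w.2⟩

theorem fixTriv_Omega (hQ : (polarBilin Q).Nondegenerate) (hn : 5 ≤ Module.finrank F V)
    {G : Type*} [Group G] [Finite G] [IsSimpleGroup G] (π : commutator (OQ Q) →* G)
    (hπ : Function.Surjective π) (hker : π.ker = Subgroup.center (commutator (OQ Q))) : FixTriv p G := by
  haveI : Finite V := Module.finite_of_finite F
  haveI : Finite (OQ Q) := Finite.of_injective (fun g : OQ Q => ((g : V ≃ₗ[F] V) : V → V))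
    fun g h e => Subtype.ext (DFunLike.coe_injective e)
  haveI : Nontrivial V := Module.nontrivial_of_finrank_pos (R := F) (by omega)
  set ρ := omegaRep Q
  have hρ : Function.Injective ρ := omegaRep_injective
  have hc := not_dvd_card_center (p := p) ρ hρ fun z hz => by
    obtain ⟨c, -, hc⟩ := (center_Omega_iff hQ hn).1 hz
    exact ⟨c, hc⟩
  have hG : NoRegularTriv p G :=
    noRegularCent_of_surjective π hπ hker (by rw [hker]; exact hc) (noRegularCent_Omega hQ hn)
  -- order and nontriviality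
  have hpow : ∀ {u a : V} (hu : Q u = 0) (ha : polar Q u a = 0), eichΩ hQ hn hu ha ^ p = 1 := by
    intro u a hu ha
    have hk : ∀ k : ℕ, (eich hQ hu ha) ^ k =
        eich hQ hu (a := (k : F) • a) (by rw [polar_smul_right', ha, mul_zero]) := by
      intro k
      induction k with
      | zero => rw [pow_zero, eich_congr hQ rfl (show ((0 : ℕ) : F) • a = 0 by simp), eich_zero_right]
      | succ k ih =>
        rw [pow_succ, ih, eich_mul]
        exact eich_congr hQ rfl (by push_cast; module)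
    refine Subtype.ext ?_
    show (eich hQ hu ha) ^ p = 1
    rw [hk, eich_congr hQ rfl (show ((p : ℕ) : F) • a = 0 by simp), eich_zero_right]
  have hne : ∀ {u a : V} (hu : Q u = 0) (ha : polar Q u a = 0), u ≠ 0 → (∀ c : F, c • u ≠ a) →
      π (eichΩ hQ hn hu ha) ≠ 1 := by
    intro u a hu ha hu0 hau
    refine map_ne_one π hker hc (hpow hu ha) fun h => ?_
    obtain ⟨z, hz⟩ : ∃ z, polar Q z u ≠ 0 := by
      by_contra hall
      push Not at hall
      exact hu0 (hQ.1 u fun z => by
        show polar Q u z = 0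
        rw [QuadraticMap.polar_comm]; exact hall z)
    have h1 : (eich hQ hu ha : V ≃ₗ[F] V) z = z := by
      show ρ (eichΩ hQ hn hu ha) z = z
      rw [h, map_one]; rfl
    rw [eich_apply, add_assoc, add_eq_left] at h1
    refine hau ((polar Q z a - Q a * polar Q z u) / polar Q z u) ?_
    have h2 : (polar Q z a - Q a * polar Q z u) • u = polar Q z u • a := by
      rwa [neg_smul, ← sub_eq_add_neg, sub_eq_zero] at h1
    rw [div_eq_inv_mul, mul_smul, h2, inv_smul_smul₀ hz]
  have hsame : ∀ {u a b : V} (hu : Q u = 0) (ha : polar Q u a = 0) (hb : polar Q u b = 0),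
      Commute (eichΩ hQ hn hu ha) (eichΩ hQ hn hu hb) := fun {u a b} hu ha hb => Subtype.ext (by
    show eich hQ hu ha * eich hQ hu hb = eich hQ hu hb * eich hQ hu ha
    rw [eich_mul, eich_mul]
    exact eich_congr hQ rfl (add_comm a b))
  obtain ⟨u, hu0, hu⟩ := CfsgLib.Known.QuadClassify.exists_singular Q (by omega)
  obtain ⟨z, hz⟩ : ∃ z, polar Q u z ≠ 0 := by
    by_contra hall
    push Not at hall
    exact hu0 (hQ.1 u hall)
  obtain ⟨w₀, hw00, hw0, hw0u', hw0z⟩ :=
    exists_singular_ker_two (Q := Q) hn (polarBilin Q u) (polarBilin Q z)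
  have hw0u : polar Q u w₀ = 0 := hw0u'
  have hw0c : ∀ c : F, c • u ≠ w₀ := fun c h => by
    have h1 : polar Q z w₀ = 0 := hw0z
    rw [← h, polar_smul_right', QuadraticMap.polar_comm, mul_eq_zero] at h1
    rcases h1 with h1 | h1
    · exact hw00 (by rw [← h, h1, zero_smul])
    · exact hz h1
  refine fixTriv_of_linked hG π hπ (x₀ := eichΩ hQ hn hu hw0u) (hne hu hw0u hu0 hw0c)
    ⟨1, by rw [pow_one]; exact hpow hu hw0u⟩ fun C hC hx g => ?_
  have hlink : ∀ {x y : commutator (OQ Q)}, x ∈ C → π x ≠ 1 → x ^ p = 1 → Commute x y → y ∈ C :=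
    fun h1 h2 h3 h4 => hC _ _ h1 h2 ⟨1, by rw [pow_one]; exact h3⟩ h4
  obtain ⟨g', hg'⟩ : ∃ g' : V ≃ₗ[F] V, g' = ((g : OQ Q) : V ≃ₗ[F] V) := ⟨_, rfl⟩
  have hu' : Q (g' u) = 0 := by rw [hg', OQ.map_apply, hu]
  have hwu' : polar Q (g' u) (g' w₀) = 0 := by rw [hg', OQ.map_polar]; exact hw0u
  have hconj : g * eichΩ hQ hn hu hw0u * g⁻¹ = eichΩ hQ hn hu' hwu' := Subtype.ext (by
    show (g : OQ Q) * eich hQ hu hw0u * (g : OQ Q)⁻¹ = eich hQ hu' hwu'
    rw [eich_conj]
    exact eich_congr hQ (by rw [hg']) (by rw [hg']))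
  rw [hconj]
  have hswap : ∀ {a b : V} (ha : Q a = 0) (hb : Q b = 0) (hab : polar Q a b = 0),
      eichΩ hQ hn ha hab = eichΩ hQ hn hb (a := -a)
        (by rw [QuadraticMap.polar_neg_right, QuadraticMap.polar_comm, hab, neg_zero]) :=
    fun ha hb hab => Subtype.ext (eich_swap hQ ha hab hb)
  have hu'0 : g' u ≠ 0 := fun h => hu0 (g'.injective (by rw [h, map_zero]))
  by_cases hdep : ∃ c : F, c • u = g' u
  · obtain ⟨c, hc'⟩ := hdep
    refine hlink hx (hne hu hw0u hu0 hw0c) (hpow hu hw0u) ?_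
    have hb : polar Q u (g' w₀) = 0 := by
      have h1 := hwu'
      rw [← hc', polar_smul_left', mul_eq_zero] at h1
      exact h1.resolve_left fun h => hu'0 (by rw [← hc', h, zero_smul])
    have he : eichΩ hQ hn hu' hwu' = eichΩ hQ hn hu (a := c • g' w₀)
        (by rw [polar_smul_right', hb, mul_zero]) := Subtype.ext (by
      show eich hQ hu' hwu' = eich hQ hu
        (a := c • g' w₀) (by rw [polar_smul_right', hb, mul_zero])
      rw [eich_congr hQ hc'.symm rfl, eich_smul_left hQ hu hb])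
    rw [he]
    exact hsame hu hw0u _
  push Not at hdep
  by_cases horth : polar Q u (g' u) = 0
  · have h1 := hlink hx (hne hu hw0u hu0 hw0c) (hpow hu hw0u) (hsame hu hw0u horth)
    refine hlink h1 (hne hu horth hu0 hdep) (hpow hu horth) ?_
    rw [hswap hu hu' horth]
    exact hsame hu' _ hwu'
  obtain ⟨w, hw1, hw, hwu0, hwu2⟩ := exists_singular_ker_two (Q := Q) hn (polarBilin Q u) (polarBilin Q (g' u))
  have hwu : polar Q u w = 0 := hwu0
  have hwu3 : polar Q w (g' u) = 0 := by rw [QuadraticMap.polar_comm]; exact hwu2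
  have hc1 : ∀ c : F, c • u ≠ w := fun c h => by
    have h1 : polar Q (g' u) w = 0 := hwu2
    rw [← h, polar_smul_right', QuadraticMap.polar_comm, mul_eq_zero] at h1
    rcases h1 with h1 | h1
    · exact hw1 (by rw [← h, h1, zero_smul])
    · exact horth h1
  have hc2 : ∀ c : F, c • w ≠ g' u := fun c h => by
    refine horth ?_
    rw [← h, polar_smul_right', show polar Q u w = 0 from hwu, mul_zero]
  have h1 := hlink hx (hne hu hw0u hu0 hw0c) (hpow hu hw0u) (hsame hu hw0u hwu)
  have h2 : eichΩ hQ hn hw hwu3 ∈ C := hlink h1 (hne hu hwu hu0 hc1) (hpow hu hwu) (by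
    rw [hswap hu hw hwu]
    exact hsame hw _ hwu3)
  refine hlink h2 (hne hw hwu3 hw1 hc2) (hpow hw hwu3) ?_
  rw [hswap hw hu' hwu3]
  exact hsame hu' _ hwu'

omit [Finite F] [CharP F p] [FiniteDimensional F V] in
theorem fixTriv_POmega {K : Type*} [Field K] [Finite K] [CharP K p] {ι : Type} [Fintype ι] [DecidableEq ι]
    {f : (ι → K) → K} (Q : QuadraticForm K (ι → K)) (hf : ⇑Q = f) (hQ : (polarBilin Q).Nondegenerate)
    (hn : 5 ≤ Fintype.card ι) [IsSimpleGroup (Cfsg.POmega K f)] : FixTriv p (Cfsg.POmega K f) := by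
  subst hf
  haveI : Finite (OQ Q) := Finite.of_injective
    (fun g : OQ Q => ((g : (ι → K) ≃ₗ[K] (ι → K)) : (ι → K) → ι → K))
    fun g h e => Subtype.ext (DFunLike.coe_injective e)
  haveI : Finite (Cfsg.POmega K (⇑Q)) := Finite.of_equiv _ (pOmegaEquiv Q).symm.toEquiv
  have hn' : 5 ≤ Module.finrank K (ι → K) := by rwa [Module.finrank_pi]
  refine fixTriv_Omega hQ hn'
    ((pOmegaEquiv Q).symm.toMonoidHom.comp (QuotientGroup.mk' (Subgroup.center (commutator (OQ Q)))))
    ((pOmegaEquiv Q).symm.surjective.comp (QuotientGroup.mk'_surjective _)) ?_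
  ext g
  show (pOmegaEquiv Q).symm _ = 1 ↔ _
  rw [MulEquiv.map_eq_one_iff, QuotientGroup.mk'_apply, QuotientGroup.eq_one_iff]

end CfsgLib.Lie.FixSylow
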