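import Cfsg.Agent.Lib.Lie.FixSylow.Core
import Cfsg.Agent.Lib.Lie.Suzuki.Borel

/-!
Automorphisms of odd order centralising a Sylow 2-subgroup of a Suzuki group.
-/

set_option autoImplicit false

namespace CfsgLib.Lie.FixSylow

open CfsgLib.Lie.Suzuki

theorem fixTriv_Sz {F : Type} [Field F] [Fintype F] [CharP F 2] {m : ℕ} (hm : 1 ≤ m)
    (hF : Fintype.card F = 2 ^ (2 * m + 1)) [Finite (Cfsg.Sz F m)] : FixTriv 2 (Cfsg.Sz F m) := by
  haveI : Fact (Nat.Prime 2) := ⟨Nat.prime_two⟩
  haveI := isSimple hF hm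
  have hne : unip hF ≠ ⊥ := fun h => by
    have h1 : uS hF (1 : F) 0 = 1 := Subgroup.mem_bot.1 (h ▸ uS_mem hF _ _)
    rw [← uS_one hF] at h1
    exact one_ne_zero (uS_inj hF h1).1
  have hSne : borel F m ≠ ⊤ := fun h => by
    rw [← normalizer_unip hF hm, Subgroup.normalizer_eq_top_iff] at h
    rcases IsSimpleGroup.eq_bot_or_eq_top_of_normal _ h with e | e
    · exact hne e
    · have := isPGroup_unip hF
      rw [e] at this
      obtain ⟨g, hg⟩ : ∃ g : Cfsg.Sz F m, g ∈ borel F m ∧ g ∉ unip hF := by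
        by_contra hcon
        push Not at hcon
        have h2 := odd_index_unip hF hm
        obtain ⟨c, hc0, hc1⟩ := exists_ne hm hF
        obtain ⟨a, b, hab⟩ := hcon _ (tS_mem_borel hF (Units.mk0 c hc0))
        have h3 := uS_tS_inj hF (a := a) (b := b) (t := 1) (a' := 0) (b' := 0) (t' := Units.mk0 c hc0)
          (by rw [map_one, mul_one, uS_one, one_mul, hab])
        exact hc1 (congrArg Units.val h3.2.2).symm
      exact hg.2 (e ▸ Subgroup.mem_top g)
  obtain ⟨g, -, hg⟩ := SetLike.exists_of_lt (lt_top_iff_ne_top.2 hSne)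
  obtain ⟨_ | ⟨a₀, b₀⟩, ho⟩ := (pt F m).surjective (g • pt F m none)
  · exact absurd ho.symm hg
  set n := (uS hF a₀ b₀)⁻¹ * g with hndef
  have hn : n • pt F m none = pt F m (some ((0 : F), (0 : F))) := by
    rw [hndef, mul_smul, ← ho, inv_smul_eq_iff, uS_zero]
  refine fixTriv_of_two_cells (unip hF) (borel F m) (isPGroup_unip hF) hne (unip_le_borel hF) ?_ hSne n
    (fun x => ?_) fun u hu h => ?_
  · intro α hα P hP hAP s hs
    obtain ⟨a, b, t, rfl⟩ := stab_inf hF hm hs
    have hu : ∀ x ∈ unip hF, α x = x := fun x hx => hP x (hAP hx)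
    suffices ht : α (tS hF t) = tS hF t by rw [map_mul, hu _ (uS_mem hF a b), ht]
    obtain ⟨c, hc⟩ : ∃ c, c = (tS hF t)⁻¹ * α (tS hF t) := ⟨_, rfl⟩
    have hcc : ∀ x ∈ unip hF, c * x * c⁻¹ = x := fun x hx => by
      have h1 := conj_mem_unip hF hm (tS_mem_borel hF t) hx
      have h2 := hu _ h1
      rw [map_mul, map_mul, map_inv, hu _ hx] at h2
      calc c * x * c⁻¹ = (tS hF t)⁻¹ * (α (tS hF t) * x * (α (tS hF t))⁻¹) * tS hF t := by rw [hc]; group
        _ = x := by rw [h2]; group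
    have hcN : c ∈ borel F m := by
      rw [← normalizer_unip hF hm]
      refine Subgroup.mem_normalizer_iff.2 fun x => ⟨fun hx => by rw [hcc x hx]; exact hx, fun hx => ?_⟩
      have h3 := hcc _ hx
      rw [mul_left_inj, mul_right_inj] at h3
      exact h3 ▸ hx
    obtain ⟨d, e, s, hcs⟩ := stab_inf hF hm hcN
    have hcU : c ∈ unip hF := by
      have h4 := hcc _ (uS_mem hF 0 1)
      rw [hcs, show uS hF d e * tS hF s * uS hF 0 1 * (uS hF d e * tS hF s)⁻¹ =
        uS hF d e * (tS hF s * uS hF 0 1 * (tS hF s)⁻¹) * (uS hF d e)⁻¹ by group, conj_uS, mul_zero,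
        mul_one, mul_inv_eq_iff_eq_mul, uS_mul, uS_mul] at h4
      have h5 := (uS_inj hF h4).2
      have h6 : th F m (s : F) = 1 := by
        simp only [mul_zero, add_zero, map_zero, zero_mul] at h5
        linear_combination h5
      have h7 : s = 1 := Units.ext ((th F m).injective (h6.trans (map_one _).symm))
      rw [hcs, h7, map_one, mul_one]
      exact uS_mem hF d e
    have hpw := pow_apply_of_fix α (a := 1) (map_one α) (hu _ hcU) (g := tS hF t) (by rw [hc]; group)
      (orderOf α)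
    rw [pow_orderOf_eq_one, MulAut.one_apply, one_pow, one_mul, left_eq_mul] at hpw
    obtain ⟨j, hj⟩ := isPGroup_unip hF ⟨c, hcU⟩
    have h8 := eq_one_of_pow_eq_one hα hpw (congrArg Subtype.val hj)
    rw [hc, inv_mul_eq_one] at h8
    exact h8.symm
  · obtain ⟨_ | ⟨a, b⟩, hx⟩ := (pt F m).surjective (x • pt F m none)
    · exact Or.inl hx.symm
    · refine Or.inr ⟨uS hF a b, uS_mem hF a b, ?_⟩
      show (n⁻¹ * (uS hF a b)⁻¹ * x) • pt F m none = pt F m none
      rw [mul_smul, mul_smul, ← hx, ← uS_zero hF a b, inv_smul_smul, ← hn, inv_smul_smul]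
  · obtain ⟨a, b, rfl⟩ := hu
    have h1 : (n⁻¹ * uS hF a b * n) • pt F m none = pt F m none := h
    rw [mul_smul, mul_smul, hn, uS_zero, inv_smul_eq_iff, hn, EmbeddingLike.apply_eq_iff_eq,
      Option.some.injEq, Prod.mk.injEq] at h1
    rw [h1.1, h1.2, uS_one]

end CfsgLib.Lie.FixSylow
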