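import Cfsg.Agent.Lib.Lie.FixSylow.Linear
import Cfsg.Agent.Lib.Blocks.DefectLie.Symplectic

/-!
Automorphisms of order prime to `p` centralising a Sylow subgroup: projective symplectic groups.
-/

set_option autoImplicit false

namespace CfsgLib.Lie.FixSylow

open CfsgLib.Blocks.DefectLie CfsgLib.Classical.Symp
open LinearMap (BilinForm)

variable {F : Type*} [Field F] [Finite F] {p : ℕ} [Fact p.Prime] [CharP F p]
  {V : Type*} [AddCommGroup V] [Module F V] [FiniteDimensional F V] [Nontrivial V]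
  {B : BilinForm F V}

omit [Finite F] [Nontrivial V] in
/-- A nonzero vector killed by two functionals. -/
theorem exists_mem_ker_two (h3 : 3 ≤ Module.finrank F V) (f g : V →ₗ[F] F) :
    ∃ w : V, w ≠ 0 ∧ f w = 0 ∧ g w = 0 := by
  have h1 := LinearMap.finrank_range_add_finrank_ker (f.prod g)
  have h2 : Module.finrank F (LinearMap.range (f.prod g)) ≤ 2 :=
    (Submodule.finrank_le _).trans (by simp)
  obtain ⟨w, hw, hw0⟩ := Submodule.exists_mem_ne_zero_of_ne_bot
    (p := LinearMap.ker (f.prod g)) fun h => by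
      rw [h, finrank_bot] at h1
      omega
  exact ⟨w, hw0, congrArg Prod.fst hw, congrArg Prod.snd hw⟩

theorem fixTriv_Sp (hA : B.IsAlt) (hB : B.Nondegenerate) (h3 : 3 ≤ Module.finrank F V)
    {G : Type*} [Group G] [Finite G] [IsSimpleGroup G] (π : Sp B →* G) (hπ : Function.Surjective π)
    (hker : π.ker = Subgroup.center (Sp B)) : FixTriv p G := by
  haveI : Finite V := Module.finite_of_finite F
  haveI : Finite (Sp B) := Finite.of_injective (fun g : Sp B => ((g : V ≃ₗ[F] V) : V → V))
    fun g h e => Subtype.ext (DFunLike.coe_injective e)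
  set ρ := (Sp B).subtype
  have hρ : Function.Injective ρ := Subgroup.subtype_injective _
  have hc := not_dvd_card_center (p := p) ρ hρ fun z hz => (mem_center_iff_smul hA hB).1 hz
  have hG : NoRegularTriv p G :=
    noRegularCent_of_surjective π hπ hker (by rw [hker]; exact hc) (noRegularCent_Sp hA hB)
  have hp : ∀ v, tr hA v 1 ^ p = 1 := fun v => pow_prime_of_trans ρ hρ (fun x => B x v • v)
    (fun x => by
      show (tr hA v 1 : V ≃ₗ[F] V) x = _
      rw [tr_apply, one_mul])
    fun x => by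
      show (tr hA v 1 : V ≃ₗ[F] V) (B x v • v) = _
      exact tr_fix hA 1 (by rw [map_smul, LinearMap.smul_apply, hA v, smul_zero])
  have hne : ∀ v, v ≠ 0 → π (tr hA v 1) ≠ 1 := fun v hv => map_ne_one π hker hc (hp v) fun h => by
    obtain ⟨z, -, hz⟩ := exists_partner (nondeg_top hB) (Submodule.mem_top (x := v)) hv
    have h1 : (tr hA v 1 : V ≃ₗ[F] V) z = z := by rw [h]; rfl
    rw [tr_apply, one_mul, add_eq_left, smul_eq_zero, swap hA v z, hz] at h1
    exact h1.elim (by simp) hv
  have hcomm : ∀ {u w : V}, B w u = 0 → Commute (tr hA u 1) (tr hA w 1) := fun {u w} h => by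
    have h' : B u w = 0 := LinearMap.BilinForm.IsAlt.isRefl hA w u h
    refine Subtype.ext (LinearEquiv.ext fun z => ?_)
    simp only [Subgroup.coe_mul, LinearEquiv.mul_apply, tr_apply, map_add, LinearMap.map_smul,
      LinearMap.add_apply, LinearMap.smul_apply, smul_eq_mul, h, h', mul_zero, add_zero, one_mul]
    module
  obtain ⟨v, hv⟩ := exists_ne (0 : V)
  refine fixTriv_of_linked hG π hπ (x₀ := tr hA v 1) (hne v hv) ⟨1, by rw [pow_one]; exact hp v⟩
    fun C hC hx g => ?_
  obtain ⟨v', hv'⟩ : ∃ v', v' = (g : V ≃ₗ[F] V) v := ⟨_, rfl⟩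
  have hconj : g * tr hA v 1 * g⁻¹ = tr hA v' 1 := by
    refine Subtype.ext (LinearEquiv.ext fun z => ?_)
    obtain ⟨y, rfl⟩ := (g : V ≃ₗ[F] V).surjective z
    show (g : V ≃ₗ[F] V) ((tr hA v 1 : V ≃ₗ[F] V) ((g : V ≃ₗ[F] V).symm ((g : V ≃ₗ[F] V) y))) = _
    rw [LinearEquiv.symm_apply_apply, tr_apply, tr_apply, map_add, LinearEquiv.map_smul, hv', sp_apply]
  rw [hconj]
  obtain ⟨w, hw0, hw1, hw2⟩ := exists_mem_ker_two h3 (B v) (B v')
  have hw1' : B w v = 0 := LinearMap.BilinForm.IsAlt.isRefl hA v w hw1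
  have h1 := hC _ _ hx (hne v hv) ⟨1, by rw [pow_one]; exact hp v⟩ (hcomm hw1')
  exact hC _ _ h1 (hne w hw0) ⟨1, by rw [pow_one]; exact hp w⟩ (hcomm hw2)

omit [Finite F] [CharP F p] [FiniteDimensional F V] [Nontrivial V] in
theorem fixTriv_PSp {K : Type*} [Field K] [Fintype K] [CharP K p] {m : ℕ} (hm : 2 ≤ m)
    [IsSimpleGroup (Cfsg.PSp m K)] : FixTriv p (Cfsg.PSp m K) := by
  haveI : Nonempty (Fin m) := ⟨⟨0, by omega⟩⟩
  let E := symplecticEquiv m K
  let π : Sp (sympBil m K) →* Cfsg.PSp m K := (QuotientGroup.mk' _).comp E.symm.toMonoidHom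
  have hker : π.ker = Subgroup.center (Sp (sympBil m K)) := by
    ext g
    show QuotientGroup.mk' _ (E.symm g) = 1 ↔ _
    rw [QuotientGroup.mk'_apply, QuotientGroup.eq_one_iff, Subgroup.mem_center_iff, Subgroup.mem_center_iff]
    constructor
    · intro h y
      have := congrArg E (h (E.symm y))
      rwa [map_mul, map_mul, E.apply_symm_apply, E.apply_symm_apply] at this
    · intro h y
      apply E.injective
      rw [map_mul, map_mul, E.apply_symm_apply, h]
  exact fixTriv_Sp (sympBil_isAlt m K) (sympBil_nondegenerate m K)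
    (by rw [Module.finrank_pi, Fintype.card_sum, Fintype.card_fin]; omega) π
    ((QuotientGroup.mk'_surjective _).comp E.symm.surjective) hker

end CfsgLib.Lie.FixSylow
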