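import Cfsg.Agent.Lib.Lie.FixSylow.Core
import Cfsg.Agent.Lib.Known.TwistAut.Parabolic

/-!
Automorphisms of order prime to `p` centralising the fixed unipotent subgroup of a twisted system.
-/

set_option autoImplicit false

namespace CfsgLib.Lie.FixSylow

open CfsgLib.Lie.Chev
open Cfsg.Lie (ChevalleyDatum)

variable {D : ChevalleyDatum} {X : Aux} {F : Type*} [Field F] {G : Type*} [Group G] [Finite G]
  {R : Rel D X F G} (T : TwG R) {p : ℕ} [Fact p.Prime]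
include T

theorem fix_mem_fixUV (hU : IsPGroup p T.U1) (hidx : ¬ p ∣ T.U1.index) {φ : MulAut T.P1}
    (hφ : ¬ p ∣ orderOf φ) (hfix : ∀ x ∈ T.U1, φ x = x) : φ ∈ T.fixUV := by
  obtain ⟨g, hg1, hg2⟩ := T.exists_mem_fixUV hU hidx φ
  have hgn : ∀ x ∈ T.U1, g * x * g⁻¹ ∈ T.U1 := fun x hx => by
    have h := hg1.le ⟨x, hx, rfl⟩
    simpa [MulAut.mul_apply, hfix x hx] using h
  obtain ⟨v, hv, h, hh, rfl⟩ := T.exists_UH_of_mem_B1 (T.mem_B1_of_normalises hgn)
  have hu : h⁻¹ * v⁻¹ * h ∈ T.U1 := by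
    simpa using T.B1_le_normalizer (g := h⁻¹) (R.HS_le_BS (inv_mem hh)) (inv_mem hv)
  obtain ⟨u, hudef⟩ : ∃ u, u = h⁻¹ * v⁻¹ * h := ⟨_, rfl⟩
  rw [← hudef] at hu
  -- the image of the opposite subgroup
  have hV : T.V1.map φ.toMonoidHom ≤ T.V1.map (MulAut.conj u).toMonoidHom := by
    rintro _ ⟨y, hy, rfl⟩
    have h1 : v * h * φ y * (v * h)⁻¹ ∈ T.V1 := by
      have h2 := hg2.le ⟨y, hy, rfl⟩
      simpa [MulAut.mul_apply, mul_assoc] using h2
    refine ⟨h⁻¹ * (v * h * φ y * (v * h)⁻¹) * h⁻¹⁻¹, T.H1_normalises_V1 (inv_mem hh) h1, ?_⟩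
    simp only [MulEquiv.coe_toMonoidHom, MulAut.conj_apply, hudef]
    group
  have hit : ∀ k : ℕ, ∀ y ∈ T.V1, (φ ^ k) y ∈ T.V1.map (MulAut.conj (u ^ k)).toMonoidHom := by
    intro k
    induction k with
    | zero => exact fun y hy => ⟨y, hy, by simp⟩
    | succ k ih =>
      intro y hy
      obtain ⟨z, hz, hze⟩ := ih y hy
      obtain ⟨w, hw, hwe⟩ := hV ⟨z, hz, rfl⟩
      refine ⟨w, hw, ?_⟩
      simp only [MulEquiv.coe_toMonoidHom, MulAut.conj_apply] at hze hwe ⊢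
      rw [pow_succ' φ, MulAut.mul_apply, ← hze, map_mul, map_mul, map_inv, map_pow, hfix u hu, ← hwe,
        pow_succ]
      group
  have huk : u ^ orderOf φ = 1 := by
    obtain ⟨n, hn⟩ : ∃ n, n = u ^ orderOf φ := ⟨_, rfl⟩
    have hnU : n ∈ T.U1 := hn ▸ pow_mem hu _
    have hH : n ∈ T.H1 := by
      have h1 : n⁻¹ ∈ T.H1 := by
        refine T.mem_H1_of_normalises (fun x hx => ?_) fun x hx => ?_
        · exact mul_mem (mul_mem (inv_mem hnU) hx) (inv_mem (inv_mem hnU))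
        · obtain ⟨z, hz, hze⟩ := hit (orderOf φ) x hx
          rw [pow_orderOf_eq_one, MulAut.one_apply] at hze
          simp only [MulEquiv.coe_toMonoidHom, MulAut.conj_apply, ← hn] at hze
          rw [← hze]
          simpa [mul_assoc] using hz
      simpa using inv_mem h1
    rw [← hn]
    refine Subtype.ext ?_
    have h2 : (n : G) ∈ R.UP ⊓ R.HS := ⟨hnU, hH⟩
    rwa [R.UP_inf_HS, Subgroup.mem_bot] at h2
  obtain ⟨j, hj⟩ := hU ⟨u, hu⟩
  have hu1 : u = 1 := eq_one_of_pow_eq_one hφ huk (congrArg Subtype.val hj)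
  refine ⟨?_, ?_⟩
  · refine le_antisymm ?_ fun x hx => ⟨x, hx, hfix x hx⟩
    rintro _ ⟨x, hx, rfl⟩
    show φ x ∈ T.U1
    rw [hfix x hx]
    exact hx
  · rw [hu1, map_one] at hV
    refine Subgroup.eq_of_le_of_card_ge (hV.trans ?_) (le_of_eq
      (Nat.card_congr (T.V1.equivMapOfInjective _ φ.injective).toEquiv))
    rintro _ ⟨x, hx, rfl⟩
    exact hx

/-- A twisted group that is simple has no such automorphism. -/
theorem fixTriv_tw [IsSimpleGroup T.P1] (k₀ : Fin T.κ) (hU : IsPGroup p T.U1) (hidx : ¬ p ∣ T.U1.index) :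
    FixTriv p T.P1 := by
  refine fixTriv_of_one (hU.toSylow hidx) fun φ hφ hfix => ?_
  replace hfix : ∀ x ∈ T.U1, φ x = x := hfix
  have hUV := fix_mem_fixUV T hU hidx hφ hfix
  have hUK : ∀ (k : Fin T.κ), ∀ x ∈ T.UK k, φ x = x := fun k x hx => hfix x (T.UK_le_U1 k hx)
  -- every negative class is preserved
  have hVK : ∀ k, (T.VK k).map φ.toMonoidHom = T.VK k := by
    intro k
    obtain ⟨j, hj⟩ := T.exists_VK_image hUV k
    suffices hjk : j = k by rwa [hjk] at hj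
    by_contra hjk
    obtain ⟨y, hy, hy1⟩ := T.exists_VK_ne k
    obtain ⟨z, hz, hz1⟩ := T.exists_VK_ne j
    obtain ⟨w, hwdef⟩ : ∃ w, w = φ y := ⟨_, rfl⟩
    have hw : w ∈ T.VK j := hwdef ▸ hj.le ⟨y, hy, rfl⟩
    have hw1 : w ≠ 1 := fun h => hy1 (φ.injective (by rw [← hwdef, h, map_one]))
    have hrad : ∀ x ∈ T.UK j, y * x * y⁻¹ ∈ T.U1 := fun x hx => by
      have hyP : (y : G) ∈ R.PJ (orbSet T.orb k) := by
        rw [R.PJ_eq _ T.desc]
        exact Subgroup.mem_sup_right (R.US_mono (fun r hr => Or.inr hr.2) hy)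
      have hsub : posSub D X T.orb j ⊆ radSet D X (orbSet T.orb k) := fun r hr => ⟨hr.1, fun hs => by
        obtain ⟨i, hi⟩ := R.exists_coef_ne_zero r
        exact hjk ((T.orb_of_coef hr.2 hi).symm.trans (T.orb_of_coef hs hi))⟩
      have hxR : (x : G) ∈ R.UR (orbSet T.orb k) := R.US_mono hsub hx
      exact R.US_mono (fun r hr => hr.1)
        ((Subgroup.mem_normalizer_iff.1 (R.PJ_le_normalizer _ T.desc hyP) _).1 hxR)
    obtain ⟨a, ha, t, ht, u, hu, e⟩ := T.exists_class_form hw hw1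
    -- a positive element conjugated out of the positive subgroup
    have hx₀ : (T.sJ j)⁻¹ * z * T.sJ j ∈ T.UK j := T.sJ_conj_VK hz
    obtain ⟨x₀, hx₀def⟩ : ∃ x₀, x₀ = (T.sJ j)⁻¹ * z * T.sJ j := ⟨_, rfl⟩
    rw [← hx₀def] at hx₀
    have hx : u⁻¹ * x₀ * u ∈ T.UK j := mul_mem (mul_mem (inv_mem hu) hx₀) hu
    have h1 : w * (u⁻¹ * x₀ * u) * w⁻¹ ∈ T.U1 := by
      have h2 := hrad _ hx
      have h3 := hfix _ h2
      rw [map_mul, map_mul, map_inv, hUK j _ hx, ← hwdef] at h3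
      rw [h3]
      exact h2
    have hz' : z ∈ T.U1 := by
      have h4 := mul_mem (mul_mem (inv_mem (T.UK_le_U1 j ha)) h1) (T.UK_le_U1 j ha)
      rw [e, hx₀def] at h4
      have h5 := T.B1_le_normalizer (g := t⁻¹) (R.HS_le_BS (inv_mem ht)) h4
      convert h5 using 1
      group
    exact hz1 (T.U1_inf_V1 hz' (T.VK_le_V1 j hz))
  have hVfix : ∀ k, ∀ y ∈ T.VK k, φ y = y := fun k y hy => T.fix_VK (hVK k) (hUK k) hy
  -- the fixed points contain a normal subgroup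
  obtain ⟨L, hL⟩ : ∃ L : Subgroup T.P1, L = T.U1 ⊔ ⨆ k, T.VK k := ⟨_, rfl⟩
  have hLK : L ≤ fixSub φ := hL ▸ sup_le hfix (iSup_le fun k y hy => hVfix k y hy)
  have hU1L : T.U1 ≤ L := hL ▸ le_sup_left
  have hVKL : ∀ k, T.VK k ≤ L := fun k => hL ▸ (le_iSup (fun k => T.VK k) k).trans le_sup_right
  have hH : T.H1 ≤ Subgroup.normalizer (L : Set T.P1) := by
    have key : ∀ h ∈ T.H1, ∀ y ∈ L, h * y * h⁻¹ ∈ L := by
      intro h hh
      suffices L ≤ L.comap (MulAut.conj h).toMonoidHom from fun y hy => this hy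
      conv_lhs => rw [hL]
      refine sup_le (fun y hy => hU1L (T.B1_le_normalizer (R.HS_le_BS hh) hy))
        (iSup_le fun k y hy => hVKL k (T.H1_conj_VK hh hy))
    intro h hh
    refine Subgroup.mem_normalizer_iff.2 fun y => ⟨key h hh y, fun hy => ?_⟩
    simpa [mul_assoc] using key h⁻¹ (inv_mem hh) _ hy
  have hB : T.B1 ≤ Subgroup.normalizer (L : Set T.P1) := fun g hg => by
    obtain ⟨v, hv, h, hh, rfl⟩ := T.exists_UH_of_mem_B1 hg
    exact mul_mem (Subgroup.le_normalizer (hU1L hv)) (hH hh)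
  have hs : ∀ k, T.sJ k ∈ Subgroup.normalizer (L : Set T.P1) := fun k => by
    obtain ⟨y, hy, hy1⟩ := T.exists_VK_ne k
    obtain ⟨a, ha, t, ht, u, hu, e⟩ := T.exists_class_form hy hy1
    rw [show T.sJ k = t⁻¹ * (a⁻¹ * y * u⁻¹) by rw [e]; group]
    exact mul_mem (hH (inv_mem ht)) (Subgroup.le_normalizer
      (mul_mem (mul_mem (inv_mem (hU1L (T.UK_le_U1 k ha))) (hVKL k hy)) (inv_mem (hU1L (T.UK_le_U1 k hu)))))
  have hnorm : L.Normal := Subgroup.normalizer_eq_top_iff.1 (top_le_iff.1 (by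
    rw [← T.bnPair1.sup_eq_top, ← T.bnPair1.closure_sup]
    exact sup_le hB (sup_le ((Subgroup.closure_le _).2 (by rintro _ ⟨k, rfl⟩; exact hs k))
      (inf_le_left.trans hB))))
  have hLne : L ≠ ⊥ := fun h0 => by
    obtain ⟨i, -⟩ : ∃ i : Fin T.κ, True := ⟨k₀, trivial⟩
    obtain ⟨y, hy, hy1⟩ := T.exists_VK_ne i
    exact hy1 (Subgroup.mem_bot.1 (h0 ▸ hVKL i hy))
  rcases IsSimpleGroup.eq_bot_or_eq_top_of_normal L hnorm with e | e
  · exact absurd e hLne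
  · exact MulEquiv.ext fun g => hLK (e ▸ Subgroup.mem_top g)

end CfsgLib.Lie.FixSylow
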