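import Cfsg.Agent.Lib.Lie.FixSylow.Linear
import Cfsg.Agent.Lib.Blocks.DefectLie.Unitary

/-!
Automorphisms of order prime to `p` centralising a Sylow subgroup: projective special unitary groups.
-/

set_option autoImplicit false

namespace CfsgLib.Lie.FixSylow

open CfsgLib.Blocks.DefectLie CfsgLib.Classical.Herm

variable {F : Type*} [Field F] [Finite F] {p : ℕ} [Fact p.Prime] [CharP F p]
  {V : Type*} [AddCommGroup V] [Module F V] [FiniteDimensional F V] [Nontrivial V]
  {σ : F →+* F} {B : V →ₛₗ[σ] V →ₗ[F] F} (h : IsHerm B)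
include h

omit [Fact p.Prime] [CharP F p] [Nontrivial V] in
/-- A nonzero isotropic vector killed by two functionals. -/
theorem exists_isotropic_ker_two (h4 : 4 ≤ Module.finrank F V) (f g : V →ₗ[F] F) :
    ∃ w : V, w ≠ 0 ∧ B w w = 0 ∧ f w = 0 ∧ g w = 0 := by
  set P := LinearMap.ker (f.prod g) with hP
  have h1 := LinearMap.finrank_range_add_finrank_ker (f.prod g)
  have h2 : Module.finrank F (LinearMap.range (f.prod g)) ≤ 2 :=
    (Submodule.finrank_le _).trans (by simp)
  have hP2 : 2 ≤ Module.finrank F P := by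
    rw [hP]; omega
  have hmem : ∀ x ∈ P, f x = 0 ∧ g x = 0 := fun x hx => ⟨congrArg Prod.fst hx, congrArg Prod.snd hx⟩
  obtain ⟨x, hx, hx0⟩ := Submodule.exists_mem_ne_zero_of_ne_bot (p := P) fun hb => by
    rw [hb, finrank_bot] at hP2; omega
  by_cases hxx : B x x = 0
  · exact ⟨x, hx0, hxx, hmem x hx⟩
  have h5 := LinearMap.finrank_range_add_finrank_ker ((B x).comp P.subtype)
  have h6 : Module.finrank F (LinearMap.range ((B x).comp P.subtype)) ≤ 1 :=
    (Submodule.finrank_le _).trans (by simp)
  obtain ⟨⟨y, hy⟩, hxy, hy0⟩ := Submodule.exists_mem_ne_zero_of_ne_bot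
    (p := LinearMap.ker ((B x).comp P.subtype)) fun hb => by
      rw [hb, finrank_bot] at h5; omega
  have hxy' : B x y = 0 := hxy
  have hyx : B y x = 0 := h.eq_zero_symm hxy'
  have hy0' : y ≠ 0 := fun e => hy0 (Subtype.ext e)
  by_cases hyy : B y y = 0
  · exact ⟨y, hy0', hyy, hmem y hy⟩
  obtain ⟨a, ha⟩ := h.invol.exists_norm_eq (μ := -B y y / B x x)
    (by rw [map_div₀, map_neg, h.self_fixed, h.self_fixed])
  refine ⟨y + a • x, fun h0 => ?_, ?_, hmem _ (P.add_mem hy (P.smul_mem a hx))⟩
  · have h7 := congrArg (B x) h0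
    rw [map_add, smul_right, map_zero, hxy', zero_add, mul_eq_zero] at h7
    rcases h7 with h7 | h7
    · rw [h7, zero_smul, add_zero] at h0; exact hy0' h0
    · exact hxx h7
  · simp only [map_add, LinearMap.add_apply, smul_left, smul_right, hxy', hyx]
    rw [eq_div_iff hxx] at ha
    linear_combination ha

omit [Finite F] [Fact p.Prime] [CharP F p] [Nontrivial V] in
/-- In dimension three an isotropic vector orthogonal to another lies on its line. -/
theorem mem_span_of_orth (h3 : Module.finrank F V = 3) {e x : V} (he : e ≠ 0) (hee : B e e = 0)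
    (hxx : B x x = 0) (hex : B e x = 0) : x ∈ Submodule.span F {e} := by
  obtain ⟨f, hef, hff⟩ := h.exists_isotropic_partner he hee
  have hfe : B f e = 1 := by rw [← h.symm, hef, map_one]
  obtain ⟨x', hx'⟩ : ∃ x', x' = x - B f x • e := ⟨_, rfl⟩
  have h1 : B e x' = 0 := by rw [hx', map_sub, smul_right, hex, hee, mul_zero, sub_zero]
  have h2 : B f x' = 0 := by rw [hx', map_sub, smul_right, hfe, mul_one, sub_self]
  have h4 : B x' x' = 0 := by
    simp only [hx', map_sub, LinearMap.sub_apply, smul_left, smul_right, hxx, hex, hee,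
      h.eq_zero_symm hex, mul_zero, sub_self]
  by_cases h0 : x' = 0
  · rw [hx', sub_eq_zero] at h0
    exact Submodule.mem_span_singleton.2 ⟨_, h0.symm⟩
  exfalso
  obtain ⟨z, hz⟩ := h.exists_apply_eq_one h0
  have hli : LinearIndependent F ![e, f, x'] := by
    rw [Fintype.linearIndependent_iff]
    intro c hc
    simp only [Fin.sum_univ_three, Matrix.cons_val_zero, Matrix.cons_val_one, Matrix.cons_val] at hc
    have e1 := congrArg (B f) hc
    have e2 := congrArg (B e) hc
    simp only [map_add, smul_right, map_zero, hfe, hff, h2, mul_one, mul_zero, add_zero] at e1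
    simp only [map_add, smul_right, map_zero, hee, hef, h1, mul_one, mul_zero, add_zero, zero_add] at e2
    rw [e1, e2, zero_smul, zero_smul, zero_add, zero_add, smul_eq_zero] at hc
    intro i
    fin_cases i
    · exact e1
    · exact e2
    · exact hc.resolve_right h0
  have hspan := hli.span_eq_top_of_card_eq_finrank (by rw [Fintype.card_fin, h3])
  have hBz : B x' = 0 := LinearMap.ext_on_range hspan fun i => by
    fin_cases i
    · simpa using h.eq_zero_symm h1
    · simpa using h.eq_zero_symm h2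
    · simpa using h4
  rw [hBz, LinearMap.zero_apply] at hz
  exact zero_ne_one hz

theorem fixTriv_HSU {G : Type*} [Group G] [Finite G] [IsSimpleGroup G] (π : HSU B →* G)
    (hπ : Function.Surjective π) (hker : π.ker = Subgroup.center (HSU B)) (h3 : 3 ≤ Module.finrank F V) :
    FixTriv p G := by
  haveI : Finite V := Module.finite_of_finite F
  haveI : Finite (HU B) := Finite.of_injective (fun g : HU B => ((g : V ≃ₗ[F] V) : V → V))
    fun g h e => Subtype.ext (DFunLike.coe_injective e)
  set ρ := suRep B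
  have hρ : Function.Injective ρ := suRep_injective
  have hsc : ∀ z ∈ Subgroup.center (HSU B), ∃ a : F, ∀ v, ρ z v = a • v :=
    fun z hz => (h.mem_center_HSU_iff h3).1 hz
  have hc := not_dvd_card_center (p := p) ρ hρ hsc
  have hG : NoRegularTriv p G :=
    noRegularCent_of_surjective π hπ hker (by rw [hker]; exact hc) (noRegularCent_HSU h)
  obtain ⟨θ, hθ0, hθ⟩ := h.exists_skew
  obtain ⟨e, he0, hee⟩ := h.exists_isotropic (by omega)
  obtain ⟨T, hT⟩ : ∃ T : ∀ v : V, B v v = 0 → HSU B, ∀ v hv y, ρ (T v hv) y = y + (θ * B v y) • v :=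
    ⟨fun v hv => ⟨h.tr hv hθ, h.det_tr hv hθ⟩, fun v hv y => h.tr_apply hv hθ y⟩
  have hpow : ∀ v hv, T v hv ^ p = 1 := fun v hv => pow_prime_of_trans ρ hρ (fun y => (θ * B v y) • v)
    (hT v hv) fun y => by rw [hT, smul_right, hv, mul_zero, mul_zero, zero_smul, add_zero]
  have hT1 : ∀ v hv, v ≠ 0 → T v hv ≠ 1 := fun v hv hv0 heq => by
    obtain ⟨z, hz⟩ := h.exists_apply_eq_one hv0
    have h1 := hT v hv z
    rw [heq, map_one, LinearEquiv.coe_one, id_eq, hz, mul_one, left_eq_add, smul_eq_zero] at h1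
    exact h1.elim hθ0 hv0
  by_cases h3' : Module.finrank F V = 3
  · obtain ⟨f, hef, hff⟩ := h.exists_isotropic_partner he0 hee
    have hfe : B f e = 1 := by rw [← h.symm, hef, map_one]
    set L := Submodule.span F {e}
    set W := h.orth L
    have hmemW : ∀ {y : V}, y ∈ W ↔ B e y = 0 := fun {y} => by
      refine ⟨fun hy => h.mem_orth.1 hy e (Submodule.mem_span_singleton_self e), fun hy => ?_⟩
      refine h.mem_orth.2 fun w hw => ?_
      obtain ⟨c, rfl⟩ := Submodule.mem_span_singleton.1 hw
      rw [smul_left, hy, mul_zero]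
    have hLW : L ≤ W := (Submodule.span_singleton_le_iff_mem _ _).2 (hmemW.2 hee)
    have hmap : ∀ (g : HSU B) u v, B (ρ g u) (ρ g v) = B u v := fun g u v => (g : HU B).2 u v
    -- the flag group
    have htrW : T e hee ∈ flagFix ρ L W := mem_flagFix ρ hLW
      (fun w hw => by rw [hT, hmemW.1 (hLW hw), mul_zero, zero_smul, add_zero])
      (fun w hw => by rw [hT, hmemW.1 hw, mul_zero, zero_smul, add_zero, sub_self]; exact L.zero_mem)
      (fun v => by
        rw [hT, add_sub_cancel_left]
        exact W.smul_mem _ (hLW (Submodule.mem_span_singleton_self e)))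
    obtain ⟨y, hy⟩ : ∃ y, y = ρ (T f hff) e := ⟨_, rfl⟩
    have hey : B e y = θ := by
      rw [hy, hT, map_add, smul_right, hee, hfe, hef, mul_one, mul_one, zero_add]
    have hyy : B y y = 0 := by rw [hy, hmap, hee]
    refine fixTriv_of_lines ρ hρ π hπ hker hc hG hsc W hLW (fun g hg w hw => hmemW.2 ?_) (T f hff)
      (fun hc' => ?_) ⟨_, htrW, hT1 e hee he0⟩ (fun g hg => ?_) fun u hu hfix => ?_
    · obtain ⟨c, hc'⟩ := Submodule.mem_span_singleton.1 hg
      have hc0 : σ c ≠ 0 := by
        rw [ne_eq, map_eq_zero]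
        intro h0
        refine he0 ((ρ g).injective ?_)
        rw [← hc', h0, zero_smul, map_zero]
      have h1 := hmap g e w
      rw [hmemW.1 hw, ← hc', smul_left, mul_eq_zero] at h1
      exact h1.resolve_left hc0
    · obtain ⟨c, hc''⟩ := Submodule.mem_span_singleton.1 hc'
      have h1 := congrArg (B e) hc''
      rw [← hy, hey, smul_right, hee, mul_zero] at h1
      exact hθ0 h1.symm
    · obtain ⟨x, hx⟩ : ∃ x, x = ρ g e := ⟨_, rfl⟩
      have hxx : B x x = 0 := by rw [hx, hmap, hee]
      have hex : B e x ≠ 0 := fun h0 => hg (hx ▸ mem_span_of_orth h h3' he0 hee hxx h0)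
      obtain ⟨y', hy'⟩ : ∃ y', y' = (B e y)⁻¹ • y := ⟨_, rfl⟩
      obtain ⟨x', hx'⟩ : ∃ x', x' = (B e x)⁻¹ • x := ⟨_, rfl⟩
      have hey' : B e y' = 1 := by rw [hy', smul_right, inv_mul_cancel₀ (hey ▸ hθ0)]
      have hex' : B e x' = 1 := by rw [hx', smul_right, inv_mul_cancel₀ hex]
      have hyy' : B y' y' = 0 := by rw [hy', smul_left, smul_right, hyy, mul_zero, mul_zero]
      have hxx' : B x' x' = 0 := by rw [hx', smul_left, smul_right, hxx, mul_zero, mul_zero]
      have hye' : B y' e = 1 := by rw [← h.symm, hey', map_one]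
      obtain ⟨β, hβ⟩ : ∃ β, β = B y' (x' - y') := ⟨_, rfl⟩
      obtain ⟨w, hw⟩ : ∃ w, w = x' - y' - β • e := ⟨_, rfl⟩
      have hew : B e w = 0 := by
        rw [hw, map_sub, map_sub, smul_right, hex', hey', hee, sub_self, mul_zero, sub_zero]
      have hwy : B w y' = 0 := h.eq_zero_symm (by
        rw [hw, map_sub, smul_right, ← hβ, hye', mul_one, sub_self])
      have hwe : B w e = 0 := h.eq_zero_symm hew
      have ht : β + σ β = -B w w := by
        have hyw : B y' w = 0 := h.eq_zero_symm hwy
        have hxe : x' = y' + w + β • e := by rw [hw]; abel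
        rw [hxe] at hxx'
        simp only [map_add, LinearMap.add_apply, smul_left, smul_right, hee, hew, hwe, hwy, hyw, hyy',
          hey', hye'] at hxx'
        linear_combination hxx'
      have hpres : ∀ a b, B (eichMap B e w β a) (eichMap B e w β b) = B a b := by
        intro a b
        simp only [eichMap_apply, map_add, LinearMap.add_apply, smul_left, smul_right, hee, hew, hwe,
          map_mul, map_sub, h.symm, h.invol.invol]
        linear_combination (B e b * B a e) * ht
      have hga : ∀ a, ((h.ofPreserves _ hpres : HU B) : V ≃ₗ[F] V) a =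
          a + B e a • w + (β * B e a - B w a) • e := fun a => by
        rw [h.ofPreserves_apply, eichMap_apply]
      have g1 : ∀ a ∈ L, ((h.ofPreserves _ hpres : HU B) : V ≃ₗ[F] V) a - a = 0 := fun a ha => by
        obtain ⟨c, rfl⟩ := Submodule.mem_span_singleton.1 ha
        rw [hga, smul_right, hee, mul_zero, smul_right, hwe, mul_zero]
        simp
      have g2 : ∀ a ∈ W, ((h.ofPreserves _ hpres : HU B) : V ≃ₗ[F] V) a - a ∈ L := fun a ha => by
        rw [hga, hmemW.1 ha, zero_smul, add_zero, add_sub_cancel_left]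
        exact L.smul_mem _ (Submodule.mem_span_singleton_self e)
      have g3 : ∀ a, ((h.ofPreserves _ hpres : HU B) : V ≃ₗ[F] V) a - a ∈ W := fun a => by
        rw [hga, add_assoc, add_sub_cancel_left]
        exact W.add_mem (W.smul_mem _ (hmemW.2 hew)) (W.smul_mem _ (hmemW.2 hee))
      refine ⟨⟨_, det_eq_one_of_flag p (W₁ := L) (W₂ := W) _ g1 g2 g3⟩,
        mem_flagFix ρ hLW (fun a ha => sub_eq_zero.1 (g1 a ha)) g2 g3, ?_⟩
      refine Submodule.mem_span_singleton.2 ⟨B e x / B e y, ?_⟩
      have hu1 : ((h.ofPreserves _ hpres : HU B) : V ≃ₗ[F] V) y' = x' := by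
        rw [hga, hey', hwy, mul_one, sub_zero, one_smul, hw]
        abel
      rw [← hy]
      show (B e x / B e y) • ((h.ofPreserves _ hpres : HU B) : V ≃ₗ[F] V) y = ρ g e
      have hy2 : y = B e y • y' := by rw [hy', smul_inv_smul₀ (hey ▸ hθ0)]
      rw [congrArg ((h.ofPreserves _ hpres : HU B) : V ≃ₗ[F] V) hy2, map_smul, hu1, smul_smul,
        div_mul_cancel₀ _ (hey ▸ hθ0), hx', smul_inv_smul₀ hex, hx]
    · -- freeness
      rw [← hy] at hfix
      obtain ⟨c, hc'⟩ := Submodule.mem_span_singleton.1 hfix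
      have hue := hu.1 e (Submodule.mem_span_singleton_self e)
      have h1 := hmap u e y
      rw [hue, ← hc', smul_right, hey, mul_left_eq_self₀] at h1
      rw [h1.resolve_right hθ0, one_smul] at hc'
      have hW : ∀ w ∈ W, ρ u w = w := fun w hw => by
        obtain ⟨β, hβ⟩ := Submodule.mem_span_singleton.1 (hu.2.1 w hw).1
        have h2 := hmap u y w
        rw [← hc', show ρ u w = w + β • e by rw [hβ]; abel, map_add, smul_right, add_eq_left,
          mul_eq_zero] at h2
        have hye : B y e ≠ 0 := fun h0 => hθ0 (hey ▸ h.eq_zero_symm h0)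
        rw [h2.resolve_right hye, zero_smul, eq_comm, sub_eq_zero] at hβ
        exact hβ
      refine hρ (LinearEquiv.ext fun v => ?_)
      have hv : v = (v - (B e v / θ) • y) + (B e v / θ) • y := (sub_add_cancel _ _).symm
      rw [map_one, hv, map_add, map_smul, ← hc', hW _ (hmemW.2 (by
        rw [map_sub, smul_right, hey, div_mul_cancel₀ _ hθ0, sub_self]))]
      rfl
  -- transvections
  have hne : ∀ v hv, v ≠ 0 → π (T v hv) ≠ 1 := fun v hv hv0 =>
    map_ne_one π hker hc (hpow v hv) (hT1 v hv hv0)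
  have hcomm : ∀ {u w : V} (hu : B u u = 0) (hw : B w w = 0), B u w = 0 → Commute (T u hu) (T w hw) := by
    intro u w hu hw huw
    refine hρ (LinearEquiv.ext fun z => ?_)
    simp only [map_mul, LinearEquiv.mul_apply, hT, map_add, map_smul, smul_right, huw,
      h.eq_zero_symm huw, mul_zero, add_zero, smul_eq_mul]
    module
  refine fixTriv_of_linked hG π hπ (x₀ := T e hee) (hne e hee he0) ⟨1, by rw [pow_one]; exact hpow e hee⟩
    fun C hC hx g => ?_
  obtain ⟨v', hv'⟩ : ∃ v', v' = ρ g e := ⟨_, rfl⟩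
  have hv'' : B v' v' = 0 := by rw [hv']; exact ((g : HU B).2 e e).trans hee
  have hconj : g * T e hee * g⁻¹ = T v' hv'' := by
    refine hρ (LinearEquiv.ext fun z => ?_)
    obtain ⟨y, rfl⟩ := (ρ g).surjective z
    rw [map_mul, map_mul, LinearEquiv.mul_apply, LinearEquiv.mul_apply, ← LinearEquiv.mul_apply (ρ g⁻¹),
      ← map_mul, inv_mul_cancel, map_one, LinearEquiv.coe_one, id_eq, hT, hT, map_add, map_smul, hv',
      show B (ρ g e) (ρ g y) = B e y from (g : HU B).2 e y]
  rw [hconj]
  obtain ⟨w, hw0, hww, hw1, hw2⟩ := exists_isotropic_ker_two h (by omega) (B e) (B v')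
  have h1 := hC _ _ hx (hne e hee he0) ⟨1, by rw [pow_one]; exact hpow e hee⟩ (hcomm hee hww hw1)
  exact hC _ _ h1 (hne w hww hw0) ⟨1, by rw [pow_one]; exact hpow w hww⟩
    (hcomm hww hv'' (h.eq_zero_symm hw2))

omit h in
theorem fixTriv_PSU {K : Type*} [Field K] [Fintype K] [CharP K p] {n q : ℕ}
    (hK : Fintype.card K = q ^ 2) (hn : 3 ≤ n) [IsSimpleGroup (Cfsg.PSU n K q)] :
    FixTriv p (Cfsg.PSU n K q) := by
  haveI : Nonempty (Fin n) := ⟨⟨0, by omega⟩⟩
  have hh := hermStd_isHerm (n := n) hK
  let E := suEquiv n hK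
  let π : HSU (hermStd n hK) →* Cfsg.PSU n K q := (QuotientGroup.mk' _).comp E.symm.toMonoidHom
  have hker : π.ker = Subgroup.center (HSU (hermStd n hK)) := by
    ext g
    show QuotientGroup.mk' _ (E.symm g) = 1 ↔ _
    rw [QuotientGroup.mk'_apply, QuotientGroup.eq_one_iff, Subgroup.mem_center_iff, Subgroup.mem_center_iff]
    constructor
    · intro h y
      have := congrArg E (h (E.symm y))
      rwa [map_mul, map_mul, E.apply_symm_apply, E.apply_symm_apply] at this
    · intro h y
      apply E.injective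
      rw [map_mul, map_mul, E.apply_symm_apply, h]
  exact fixTriv_HSU hh π ((QuotientGroup.mk'_surjective _).comp E.symm.surjective) hker
    (by rw [finrank_std]; exact hn)

end CfsgLib.Lie.FixSylow
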